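import Cfsg.Agent.Lib.Leech.PointStab
import Cfsg.Agent.Lib.Leech.Sextet
import Cfsg.Agent.Lib.SporStruct.Masks
import Cfsg.Agent.Lib.OutTrivial.GolaySearch

/-!
# Words of monomial and sextet elements, evaluated on packed vectors

A lattice vector of norm at most 64 is packed into a natural number with five binary digits per index,
holding the coordinate plus 16, so that the kernel only does operations on natural numbers.  A word of
checked atoms is an element of the automorphism group of the lattice whose action on packed vectors is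
computed by `appW`; two words are equal as soon as they agree on the 24 axes.
-/

set_option autoImplicit false

namespace Cfsg.Agent.Lib.ConwayOut

open Cfsg Cfsg.Agent.Lib Cfsg.Agent.Lib.Leech
open Cfsg.Agent.Lib.Computation (getW packW forceNat forceNat_eq)

/-- The packed vector. -/
def pk (v : leechLattice) : ℕ := packW 5 (fun i => (vec v (Golay.pt i) + 16).toNat % 32) 24

theorem coord_bound {v : leechLattice} (hn : sqNorm (vec v) ≤ 64) (p : GolayPt) :
    -8 ≤ vec v p ∧ vec v p ≤ 8 :=
  coord_le (N := 64) hn (by norm_num) (by norm_num)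

theorem getW_pk {v : leechLattice} (hn : sqNorm (vec v) ≤ 64) {i : ℕ} (hi : i < 24) :
    (getW 5 (pk v) i : ℤ) = vec v (Golay.pt i) + 16 := by
  rw [pk, Computation.getW_packW (f := fun i => (vec v (Golay.pt i) + 16).toNat % 32)
    (fun x _ => Nat.mod_lt _ (by norm_num)) hi]
  have := coord_bound hn (Golay.pt i)
  omega

theorem packW_congr {w : ℕ} {f g : ℕ → ℕ} : ∀ {k : ℕ}, (∀ x < k, f x = g x) →
    packW w f k = packW w g k
  | 0, _ => rfl
  | k + 1, h => by
    rw [Computation.packW_succ, Computation.packW_succ, h k k.lt_succ_self,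
      packW_congr fun x hx => h x (hx.trans k.lt_succ_self)]

theorem pk_eq {v : leechLattice} (hn : sqNorm (vec v) ≤ 64) {f : ℕ → ℕ}
    (h : ∀ i < 24, (f i : ℤ) = vec v (Golay.pt i) + 16) : pk v = packW 5 f 24 := by
  refine packW_congr fun i hi => ?_
  have := h i hi
  have := coord_bound hn (Golay.pt i)
  omega

theorem pk_injective {v w : leechLattice} (hv : sqNorm (vec v) ≤ 64) (hw : sqNorm (vec w) ≤ 64)
    (h : pk v = pk w) : v = w := by
  apply Subtype.ext
  funext p
  show vec v p = vec w p
  have h1 := getW_pk hv (Golay.idx_lt p)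
  have h2 := getW_pk hw (Golay.idx_lt p)
  rw [Golay.pt_idx] at h1 h2
  rw [h, h2] at h1
  omega

/-- The packed axis vector of an index. -/
def axP (i : ℕ) : ℕ := packW 5 (fun j => bif Nat.beq j i then 24 else 16) 24

theorem pk_eightE (p : GolayPt) : pk (eightE p) = axP (Golay.idx p) := by
  refine pk_eq (sqNorm_eightE p).le fun j hj => ?_
  show _ = (Pi.single p 8 : GolayPt → ℤ) (Golay.pt j) + 16
  by_cases h : j = Golay.idx p
  · subst h
    rw [Golay.pt_idx, Pi.single_eq_same, Nat.beq_refl, cond_true]
    norm_num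
  · rw [Pi.single_eq_of_ne (fun e => h (by rw [← e, Golay.idx_pt hj])),
      show Nat.beq j (Golay.idx p) = false by
        rw [Bool.eq_false_iff, ne_eq, Nat.beq_eq]; exact h, cond_false]
    norm_num

/-- An elementary element. -/
inductive Atom where
  | perm (c : ℕ)
  | sign (m : ℕ)
  | sext (P q : ℕ)

/-- A bit as a number. -/
def bit (m i : ℕ) : ℕ := getW 1 m i

theorem bit_eq (m i : ℕ) : Nat.beq (bit m i) 1 = m.testBit i := by
  rw [bit, Computation.getW_eq, one_mul, pow_one, Nat.testBit_eq_decide_div_mod_eq,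
    Bool.eq_iff_iff, Nat.beq_eq, decide_eq_true_iff]

/-- The mask of a tetrad. -/
def tetMask (q t : ℕ) : ℕ :=
  2 ^ getW 5 q (4 * t) ||| 2 ^ getW 5 q (4 * t + 1) ||| 2 ^ getW 5 q (4 * t + 2) |||
    2 ^ getW 5 q (4 * t + 3)

/-- The conditions on a sextet: `q` lists the tetrads one after the other, `P` gives the labels. -/
def sextOk (P q : ℕ) : Bool :=
  Computation.okPerm 24 5 q &&
    ((List.range 24).all fun j => Nat.beq (getW 5 P (getW 5 q j)) (j / 4)) &&
    (List.range 6).all fun s => (List.range 6).all fun t =>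
      Nat.beq s t || Golay.inCode (tetMask q s ||| tetMask q t)

/-- The conditions on an atom. -/
def Atom.ok : Atom → Bool
  | .perm c => Golay.inM24 c
  | .sign m => Golay.inCode m
  | .sext P q => sextOk P q

/-- The labels of a sextet as a map. -/
def sextFun (P : ℕ) (p : GolayPt) : Fin 6 := Fin.ofNat 6 (getW 5 P (Golay.idx p))

theorem tetUnion_eq {P q : ℕ} (h : sextOk P q = true) (t : Fin 6) :
    tetUnion (sextFun P) {t} =
        (Finset.range 4).image (fun j => Golay.pt (getW 5 q (4 * (t : ℕ) + j))) ∧
      Set.InjOn (fun j => Golay.pt (getW 5 q (4 * (t : ℕ) + j))) (Finset.range 4 : Set ℕ) := by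
  simp only [sextOk, Bool.and_eq_true, List.all_eq_true, List.mem_range, Nat.beq_eq] at h
  obtain ⟨⟨hq, hl⟩, -⟩ := h
  have hinj : ∀ a < 24, ∀ b < 24, getW 5 q a = getW 5 q b → a = b := fun a ha b hb he =>
    congrArg Fin.val ((Computation.permFun_bijective hq).1 (a₁ := ⟨a, ha⟩) (a₂ := ⟨b, hb⟩)
      (Fin.ext he))
  have hlt : ∀ j < 24, getW 5 q j < 24 := fun j hj => Computation.okPerm_lt hq hj
  constructor
  · ext p
    rw [mem_tetUnion, Finset.mem_singleton, Finset.mem_image]
    obtain ⟨⟨j, hj⟩, hje⟩ := (Computation.permFun_bijective hq).2 ⟨Golay.idx p, Golay.idx_lt p⟩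
    have hje' : getW 5 q j = Golay.idx p := congrArg Fin.val hje
    constructor
    · intro hp
      have hv := congrArg Fin.val hp
      rw [sextFun, Fin.val_ofNat, ← hje', hl j hj, Nat.mod_eq_of_lt (by omega)] at hv
      refine ⟨j - 4 * (t : ℕ), Finset.mem_range.mpr (by omega), ?_⟩
      rw [show 4 * (t : ℕ) + (j - 4 * (t : ℕ)) = j by omega, hje', Golay.pt_idx]
    · rintro ⟨i, hi, rfl⟩
      rw [Finset.mem_range] at hi
      have := t.isLt
      apply Fin.ext
      rw [sextFun, Fin.val_ofNat, Golay.idx_pt (hlt _ (by omega)), hl _ (by omega)]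
      omega
  · intro a ha b hb he
    simp only [Finset.coe_range, Set.mem_Iio] at ha hb
    have := t.isLt
    have he' := congrArg Golay.idx he
    simp only [Golay.idx_pt (hlt (4 * (t : ℕ) + a) (by omega)),
      Golay.idx_pt (hlt (4 * (t : ℕ) + b) (by omega))] at he'
    have := hinj _ (by omega) _ (by omega) he'
    omega

theorem isSextet_of_ok {P q : ℕ} (h : sextOk P q = true) : IsSextet (sextFun P) := by
  constructor
  · intro t
    rw [(tetUnion_eq h t).1, Finset.card_image_of_injOn (tetUnion_eq h t).2, Finset.card_range]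
  · intro s t hst
    have h' := h
    simp only [sextOk, Bool.and_eq_true, List.all_eq_true, List.mem_range, Nat.beq_eq,
      Bool.or_eq_true] at h'
    have h1 := (h'.2 (s : ℕ) s.isLt (t : ℕ) t.isLt).resolve_left fun e => hst (Fin.ext e)
    show tetUnion (sextFun P) {s, t} ∈ supports (golayCode : Set (GolayPt → ZMod 2))
    convert Golay.setOfMask_mem_supports h1 using 1
    have hu : ∀ u : Fin 6, ∀ p, p ∈ tetUnion (sextFun P) {u} ↔
        (tetMask q (u : ℕ)).testBit (Golay.idx p) = true := by
      intro u p
      have hq := h'.1.1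
      have := u.isLt
      rw [(tetUnion_eq h u).1, Finset.mem_image, tetMask]
      simp only [Nat.testBit_or, Nat.testBit_two_pow, Bool.or_eq_true, decide_eq_true_iff]
      have hlt : ∀ j < 4, getW 5 q (4 * (u : ℕ) + j) < 24 := fun j hj =>
        Computation.okPerm_lt hq (by omega)
      constructor
      · rintro ⟨j, hj, rfl⟩
        rw [Finset.mem_range] at hj
        rw [Golay.idx_pt (hlt j hj)]
        rcases (by omega : j = 0 ∨ j = 1 ∨ j = 2 ∨ j = 3) with rfl | rfl | rfl | rfl <;> simp
      · rintro (((e | e) | e) | e)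
        exacts [⟨0, by simp, by rw [Nat.add_zero, e, Golay.pt_idx]⟩,
          ⟨1, by simp, by rw [e, Golay.pt_idx]⟩, ⟨2, by simp, by rw [e, Golay.pt_idx]⟩,
          ⟨3, by simp, by rw [e, Golay.pt_idx]⟩]
    ext p
    rw [mem_tetUnion, Finset.mem_insert, Finset.mem_singleton, Golay.mem_setOfMask, Nat.testBit_or,
      Bool.or_eq_true, ← hu, ← hu]
    simp [mem_tetUnion]

/-- The sextet map on packed vectors. -/
def sextApp (P q n : ℕ) : ℕ :=
  forceNat n fun n =>
    forceNat (packW 8 (fun t => Nat.add (Nat.add (getW 5 n (getW 5 q (4 * t)))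
        (getW 5 n (getW 5 q (4 * t + 1))))
      (Nat.add (getW 5 n (getW 5 q (4 * t + 2))) (getW 5 n (getW 5 q (4 * t + 3))))) 6) fun S =>
      packW 5 (fun i => bif Nat.beq (getW 5 P i) 0
        then Nat.sub (Nat.add (getW 5 n i) 32) (Nat.div (getW 8 S 0) 2)
        else Nat.sub (Nat.div (getW 8 S (getW 5 P i)) 2) (getW 5 n i)) 24

/-- The action of an atom on packed vectors. -/
def Atom.app : Atom → ℕ → ℕ
  | .perm c, n => forceNat n fun n => packW 5 (fun i => getW 5 n (getW 5 c i)) 24
  | .sign m, n => forceNat n fun n =>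
      packW 5 (fun i => bif Nat.beq (bit m i) 1 then Nat.sub 32 (getW 5 n i) else getW 5 n i) 24
  | .sext P q, n => sextApp P q n

/-- The permutation element of a code, inverted. -/
noncomputable def permElt (c : ℕ) : Co0 :=
  if h : Golay.inM24 c = true then (permHom ⟨Golay.gperm c, Golay.gperm_mem_M24 h⟩)⁻¹ else 1

/-- The element of an atom. -/
noncomputable def Atom.elt : Atom → Co0
  | .perm c => permElt c
  | .sign m => if h : Golay.inCode m = true then flip (Golay.setOfMask m) (Golay.setOfMask_mem_supports h) else 1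
  | .sext P q => if h : sextOk P q = true then sextetElt (isSextet_of_ok h) else 1

theorem elt_app {a : Atom} (h : a.ok = true) (v : leechLattice) (hv : sqNorm (vec v) ≤ 64) :
    pk (a.elt • v) = a.app (pk v) := by
  have hv' : sqNorm (vec (a.elt • v)) ≤ 64 := by rw [norm_smul']; exact hv
  cases a with
  | perm c =>
    simp only [Atom.elt, Atom.app, permElt, dif_pos (show Golay.inM24 c = true from h), forceNat_eq]
      at hv' ⊢
    have hok := Golay.okCode_of_inM24 (show Golay.inM24 c = true from h)
    refine pk_eq hv' fun i hi => ?_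
    rw [getW_pk hv (Golay.getW_lt hok hi), ← map_inv, permHom_apply]
    refine congrArg (fun p => vec v p + 16) ?_
    show _ = (Golay.gperm c)⁻¹.symm (Golay.pt i)
    rw [Equiv.Perm.inv_def, Equiv.symm_symm, Golay.gperm_apply hok, Golay.imgCode, Golay.idx_pt hi]
  | sign m =>
    simp only [Atom.elt, Atom.app, dif_pos (show Golay.inCode m = true from h), forceNat_eq] at hv' ⊢
    refine pk_eq hv' fun i hi => ?_
    show _ = (if Golay.pt i ∈ Golay.setOfMask m then -vec v (Golay.pt i) else vec v (Golay.pt i)) + 16
    have h1 := getW_pk hv hi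
    have h2 := coord_bound hv (Golay.pt i)
    rw [bit_eq]
    cases hb : m.testBit i
    · rw [cond_false, if_neg (by simp [Golay.idx_pt hi, hb]), h1]
    · rw [cond_true, if_pos (by simp [Golay.idx_pt hi, hb]), show Nat.sub 32 (getW 5 (pk v) i) =
        32 - getW 5 (pk v) i from rfl]
      omega
  | sext P q =>
    have hP : sextOk P q = true := h
    simp only [Atom.elt, Atom.app, dif_pos hP, sextApp, forceNat_eq] at hv' ⊢
    refine pk_eq hv' fun i hi => ?_
    rw [sextetElt_smul]
    have hq : Computation.okPerm 24 5 q = true := by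
      simp only [sextOk, Bool.and_eq_true] at hP; exact hP.1.1
    have hlab : getW 5 P i < 6 := by
      obtain ⟨⟨j, hj⟩, hje⟩ := (Computation.permFun_bijective hq).2 ⟨i, hi⟩
      have e : getW 5 q j = i := congrArg Fin.val hje
      have h' := hP
      simp only [sextOk, Bool.and_eq_true, List.all_eq_true, List.mem_range, Nat.beq_eq] at h'
      rw [← e, h'.1.2 j hj]
      omega
    have hS : ∀ t : Fin 6, (getW 8 (packW 8 (fun t => Nat.add (Nat.add (getW 5 (pk v) (getW 5 q (4 * t)))
        (getW 5 (pk v) (getW 5 q (4 * t + 1))))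
        (Nat.add (getW 5 (pk v) (getW 5 q (4 * t + 2))) (getW 5 (pk v) (getW 5 q (4 * t + 3))))) 6)
          (t : ℕ) : ℤ) = tetSum (sextFun P) (vec v) t + 64 := by
      intro t
      rw [Computation.getW_packW (fun x _ => ?_) t.isLt]
      · have hlt : ∀ j < 4, getW 5 q (4 * (t : ℕ) + j) < 24 := fun j hj =>
          Computation.okPerm_lt hq (by have := t.isLt; omega)
        have h0 := getW_pk hv (hlt 0 (by norm_num))
        have h1 := getW_pk hv (hlt 1 (by norm_num))
        have h2 := getW_pk hv (hlt 2 (by norm_num))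
        have h3 := getW_pk hv (hlt 3 (by norm_num))
        rw [Nat.add_zero] at h0
        rw [tetSum, (tetUnion_eq hP t).1, Finset.sum_image (tetUnion_eq hP t).2]
        simp only [Finset.sum_range_succ, Finset.sum_range_zero, Nat.add_zero, Nat.add_eq,
          Nat.cast_add, zero_add]
        linarith
      · have hb : ∀ y, getW 5 (pk v) y < 32 := fun y => Nat.mod_lt _ (by norm_num)
        have := hb (getW 5 q (4 * x))
        have := hb (getW 5 q (4 * x + 1))
        have := hb (getW 5 q (4 * x + 2))
        have := hb (getW 5 q (4 * x + 3))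
        simp only [Nat.add_eq]
        omega
    have h1 := getW_pk hv hi
    have hf : sextFun P (Golay.pt i) = ⟨getW 5 P i, hlab⟩ := by
      apply Fin.ext
      rw [sextFun, Golay.idx_pt hi, Fin.val_ofNat, Nat.mod_eq_of_lt hlab]
    have h2 := coord_bound hv' (Golay.pt i)
    rw [sextetElt_smul] at h2
    simp only [sextetMap, hf, tetSign] at h2 ⊢
    cases hb : Nat.beq (getW 5 P i) 0
    · have hne : getW 5 P i ≠ 0 := fun e => by rw [e, Nat.beq_refl] at hb; exact Bool.false_ne_true hb.symm
      have hS' := hS ⟨getW 5 P i, hlab⟩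
      rw [if_neg (fun e => hne (congrArg Fin.val e))] at h2 ⊢
      simp only [cond_false, Nat.sub_eq, show ∀ a b : ℕ, Nat.div a b = a / b from fun _ _ => rfl] at *
      omega
    · have he : getW 5 P i = 0 := Nat.eq_of_beq_eq_true hb
      have hS' := hS ⟨0, by norm_num⟩
      simp only [he, Fin.zero_eta, if_pos] at h2 hS' ⊢
      simp only [cond_true, Nat.sub_eq, Nat.add_eq, show ∀ a b : ℕ, Nat.div a b = a / b from fun _ _ => rfl] at *
      omega

/-- A word of atoms. -/
abbrev Word := List Atom

/-- The element of a word. -/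
noncomputable def eltW (w : Word) : Co0 := (w.map Atom.elt).prod

/-- All atoms pass their checks. -/
def okW (w : Word) : Bool := w.all Atom.ok

/-- The action of a word on packed vectors. -/
def appW (w : Word) (x : ℕ) : ℕ := w.foldr Atom.app x

theorem eltW_app : ∀ {w : Word}, okW w = true → ∀ v : leechLattice, sqNorm (vec v) ≤ 64 →
    pk (eltW w • v) = appW w (pk v)
  | [], _, v, _ => by simp [eltW, appW]
  | a :: w, h, v, hv => by
    simp only [okW, List.all_cons, Bool.and_eq_true] at h
    show pk (eltW (a :: w) • v) = a.app (appW w (pk v))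
    rw [← eltW_app (w := w) h.2 v hv, ← elt_app h.1 _ (by rw [norm_smul']; exact hv), eltW,
      List.map_cons, List.prod_cons, mul_smul]
    rfl

theorem eltW_append (u w : Word) : eltW (u ++ w) = eltW u * eltW w := by
  rw [eltW, List.map_append, List.prod_append]; rfl

theorem okW_append {u w : Word} : okW (u ++ w) = true ↔ okW u = true ∧ okW w = true := by
  simp [okW, List.all_append]

/-- Two words agree on the axes. -/
def eqW (u w : Word) : Bool := (List.range 24).all fun i => Nat.beq (appW u (axP i)) (appW w (axP i))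

theorem eltW_eq {u w : Word} (hu : okW u = true) (hw : okW w = true) (h : eqW u w = true) :
    eltW u = eltW w := by
  have hn : ∀ (g : Co0) (p : GolayPt), sqNorm (vec (g • eightE p)) ≤ 64 := fun g p => by
    rw [norm_smul', sqNorm_eightE]
  refine co0_ext fun p => pk_injective (hn _ p) (hn _ p) ?_
  rw [eltW_app hu _ (sqNorm_eightE p).le, eltW_app hw _ (sqNorm_eightE p).le, pk_eightE]
  exact Nat.eq_of_beq_eq_true (List.all_eq_true.mp h _ (List.mem_range.mpr (Golay.idx_lt p)))

end Cfsg.Agent.Lib.ConwayOut
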