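import Cfsg.Agent.Lib.ConwayOut.Co1Cert

/-!
# The outer automorphism group of the lattice group modulo the centre
-/

set_option autoImplicit false

namespace Cfsg.Agent.Lib.ConwayOut.Co1

open Cfsg Cfsg.Agent.Lib

theorem card_out : Nat.card (Out Spor.Co1) = 1 :=
  QCert.card_out Co1Cert.okGen Co1Cert.okTri Co1Cert.okCentX Co1Cert.okCentS Co1Cert.okRel
    Co1Cert.okTab Co1Cert.m_check Co1Cert.order_eq rfl

end Cfsg.Agent.Lib.ConwayOut.Co1
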