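import Cfsg.Agent.Lib.ConwayOut.Engine
import Cfsg.Prelude.Def_Spor_Conway
import Cfsg.Prelude.Def_Spor_Mathieu

/-!
# The stabiliser of the axis vector in the McLaughlin and Higman–Sims groups
-/

set_option autoImplicit false

namespace Cfsg.Agent.Lib.ConwayOut

open Cfsg Cfsg.Agent.Lib Cfsg.Agent.Lib.Leech
open scoped Pointwise

/-- Isomorphic groups have outer automorphism groups of the same order. -/
theorem card_out_congr {E H : Type*} [Group E] [Group H] (e : E ≃* H) :
    Nat.card (Out E) = Nat.card (Out H) := by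
  refine Nat.card_congr (QuotientGroup.congr (Inn E) (Inn H) (MulAut.congr e) ?_).toEquiv
  ext φ
  simp only [Subgroup.mem_map, Inn, MonoidHom.mem_range]
  constructor
  · rintro ⟨_, ⟨a, rfl⟩, rfl⟩
    refine ⟨e a, MulEquiv.ext fun y => ?_⟩
    simp [MulAut.congr]
  · rintro ⟨b, rfl⟩
    refine ⟨MulAut.conj (e.symm b), ⟨_, rfl⟩, MulEquiv.ext fun y => ?_⟩
    simp [MulAut.congr]

/-- An element fixing the axis vector and the norm 48 vector is a permutation fixing the extra
point. -/
theorem perm_of_fix {g : Co0} (hv : g • Spor.leechV = Spor.leechV)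
    (hO : g • eightE none = eightE none) :
    ∃ π : M24, (π : Equiv.Perm GolayPt) none = none ∧ g = permHom π := by
  obtain ⟨σ, hσ, c, hc, rfl⟩ := exists_monomial (axis_of_one (i := none) (j := none) (Or.inl hO))
  have hσn : σ none = none := by
    rw [monomial_apply_eightE] at hO
    split_ifs at hO
    · exact eightE_inj (Or.inr (by rw [← hO, neg_neg]))
    · exact eightE_inj (Or.inl hO)
  have hsub : c ⊆ {none} := by
    intro i hi
    rw [Finset.mem_singleton]
    by_contra hne
    have h1 := congrFun (congrArg vec hv) i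
    have h2 : σ.symm i ≠ none := by
      rw [ne_eq, Equiv.symm_apply_eq, hσn]; exact hne
    rw [monomial_smul] at h1
    simp [signedPerm, hi, Spor.leechV, Spor.vecV, vec, h2, hne] at h1
  have hc0 : c = ∅ := by
    have h1 := Finset.card_le_card hsub
    rw [Finset.card_singleton] at h1
    have := hc.weights
    exact Finset.card_eq_zero.mp (by omega)
  subst hc0
  exact ⟨⟨σ, hσ⟩, hσn, rfl⟩

theorem idx_eq_23 : ∀ q : GolayPt, Golay.idx q = 23 ↔ q = none := by decide +kernel

theorem idx_eq_0 : ∀ q : GolayPt, Golay.idx q = 0 ↔ q = some 0 := by decide +kernel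

/-- The conditions of the certificate cut out the two-point stabiliser. -/
theorem mem_M22_iff {S : OutTrivial.Spec} (hf : S.fix = [23, 0]) (hi : S.inv = [])
    (g : Equiv.Perm GolayPt) : g ∈ Spor.M22 ↔ S.Holds g := by
  simp only [OutTrivial.Spec.Holds, hf, hi, List.not_mem_nil, IsEmpty.forall_iff, implies_true,
    and_true, List.mem_cons, or_false, forall_eq_or_imp, forall_eq]
  rw [idx_eq_23, idx_eq_0, show Golay.pt 23 = none from rfl, show Golay.pt 0 = some 0 from rfl]
  rw [Spor.M22, Spor.M23, Subgroup.mem_inf, Subgroup.mem_inf, MulAction.mem_stabilizer_iff,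
    MulAction.mem_stabilizer_iff, and_assoc]
  rfl

/-- Stabiliser condition for a second vector supported on the two special points. -/
theorem stab_M22 {u : leechLattice} (h0 : vec u (some 0) ≠ 0)
    (hu : ∀ p, p ≠ none → p ≠ some 0 → vec u p = 0) {S : OutTrivial.Spec} (hf : S.fix = [23, 0])
    (hi : S.inv = []) (g : Co0) (hv : g • Spor.leechV = Spor.leechV) (hgu : g • u = u)
    (hO : g • eightE none = eightE none) : ∃ π : M24, S.Holds π ∧ g = permHom π := by
  obtain ⟨π, hn, rfl⟩ := perm_of_fix hv hO
  refine ⟨π, (mem_M22_iff hf hi _).1 ⟨⟨π.2, hn⟩, ?_⟩, rfl⟩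
  show (π : Equiv.Perm GolayPt) (some 0) = some 0
  have h := congrFun (congrArg vec hgu) ((π : Equiv.Perm GolayPt) (some 0))
  rw [permHom_apply, Equiv.symm_apply_apply] at h
  by_contra hne
  refine h0 (h.trans (hu _ (fun e => ?_) hne))
  exact absurd ((π : Equiv.Perm GolayPt).injective (e.trans hn.symm)) (by simp)

end Cfsg.Agent.Lib.ConwayOut
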