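import Cfsg.Agent.Lib.ConwayOut.Co2Cert
import Cfsg.Agent.Lib.ConwayOut.Model
import Cfsg.Agent.Lib.LeechMod2.MonsterBaby

/-!
# The outer automorphism group of the stabiliser of a minimal vector
-/

set_option autoImplicit false

namespace Cfsg.Agent.Lib.ConwayOut.Co2

open Cfsg Cfsg.Agent.Lib Cfsg.Agent.Lib.Leech
open scoped Pointwise

theorem neg_three_mem : (-3 : ℤ) = 5 ∨ (-3 : ℤ) = -3 := Or.inr rfl

/-- The vector with `-3` at the extra point and `1` elsewhere. -/
def w : leechLattice := oddTop (-3) neg_three_mem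

theorem norm_w : sqNorm (vec w) = 32 := by rw [w, sqNorm_oddTop]; norm_num

theorem idx_23 : ∀ q : GolayPt, Golay.idx q = 23 ↔ q = none := idx_eq_23

theorem mem_M23_iff {S : OutTrivial.Spec} (hf : S.fix = [23]) (hi : S.inv = [])
    (g : Equiv.Perm GolayPt) : g ∈ Spor.M23 ↔ S.Holds g := by
  simp only [OutTrivial.Spec.Holds, hf, hi, List.not_mem_nil, IsEmpty.forall_iff, implies_true,
    and_true, List.mem_cons, or_false, forall_eq]
  rw [idx_23, show Golay.pt 23 = none from rfl, Spor.M23, Subgroup.mem_inf,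
    MulAction.mem_stabilizer_iff]
  rfl

/-- The stabiliser of the axis vector. -/
theorem perm_of_fix_w {g : Co0} (hv : g • w = w) (hO : g • eightE none = eightE none) :
    ∃ π : M24, (π : Equiv.Perm GolayPt) none = none ∧ g = permHom π := by
  obtain ⟨σ, hσ, c, hc, rfl⟩ := exists_monomial (axis_of_one (i := none) (j := none) (Or.inl hO))
  have hσn : σ none = none := by
    rw [monomial_apply_eightE] at hO
    split_ifs at hO
    · exact eightE_inj (Or.inr (by rw [← hO, neg_neg]))
    · exact eightE_inj (Or.inl hO)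
  have hsub : c ⊆ {none} := by
    intro i hi
    rw [Finset.mem_singleton]
    by_contra hne
    have h1 := congrFun (congrArg vec hv) i
    have h2 : σ.symm i ≠ none := by
      rw [ne_eq, Equiv.symm_apply_eq, hσn]; exact hne
    rw [monomial_smul] at h1
    simp [signedPerm, hi, w, oddTop, vec, h2, hne] at h1
  have hc0 : c = ∅ := by
    have h1 := Finset.card_le_card hsub
    rw [Finset.card_singleton] at h1
    have := hc.weights
    exact Finset.card_eq_zero.mp (by omega)
  subst hc0
  exact ⟨⟨σ, hσ⟩, hσn, rfl⟩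

/-- The setting. -/
noncomputable def ctx : Ctx Co2Cert.data where
  v := w
  u := w
  nv := by rw [norm_w]; norm_num
  nu := by rw [norm_w]; norm_num
  encv := by decide +kernel
  encu := by decide +kernel
  stab g hv _ hO := by
    obtain ⟨π, hn, rfl⟩ := perm_of_fix_w hv hO
    exact ⟨π, (mem_M23_iff rfl rfl _).1 ⟨π.2, hn⟩, rfl⟩

theorem exists_move : ∃ g : Co0, g • w = Spor.leechU := by
  obtain ⟨g₁, h₁⟩ := transitive32 (p := none) (q := some 0) (by simp) norm_w
  obtain ⟨g₂, h₂⟩ :=
    transitive32 (p := none) (q := some 0) (by simp) LeechMod2.MonsterPairing.sqNorm_U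
  exact exists_smul_eq_of (h₁.trans h₂.symm)

theorem H_eq : ctx.H = MulAction.stabilizer Co0 w := inf_idem _

/-- The identification with the defined group. -/
noncomputable def equiv : ctx.H ≃* Spor.Co2 :=
  ((MulEquiv.subgroupCongr H_eq).trans
    (MulAction.stabilizerEquivStabilizer exists_move.choose_spec.symm)).trans
    LeechMod2.MonsterBaby.co2Equiv.symm

theorem card_H : Nat.card ctx.H = 42305421312000 := by
  rw [H_eq]; exact card_stab32 norm_w

instance isSimple_H : IsSimpleGroup ctx.H :=
  haveI := isSimple_co2 norm_w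
  (MulEquiv.subgroupCongr H_eq).isSimpleGroup

theorem card_out : Nat.card (Out ↥Spor.Co2) = 1 := by
  rw [← card_out_congr equiv]
  refine Ctx.card_out_one_sub ctx (K := Spor.M23) (steps := Co2Cert.m_steps) (ch := Co2Cert.m_chain)
    (E := Co2Cert.sub) Co2Cert.okGenK Co2Cert.okSub Co2Cert.okCent Co2Cert.okTri Co2Cert.okRel
    Co2Cert.okTab Co2Cert.noOuter (mem_M23_iff rfl rfl) (fun g => g.2.2)
    (show Nat.Prime 23 by norm_num) ?_ ?_ Co2Cert.m_check
    (Golay.card_spor_M23.trans Co2Cert.order_eq.symm) ?_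
  · show ¬ 23 ^ 2 ∣ _
    rw [card_H]; norm_num
  · show 23 ∣ _
    rw [card_H]; norm_num
  · rw [card_H, Golay.card_spor_M23, show Co2Cert.sub.allowed.length = 24 from rfl]
    show _ < 23 * _
    norm_num

end Cfsg.Agent.Lib.ConwayOut.Co2
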