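import Cfsg.Agent.Lib.OutTrivial.Triple

/-!
# Automorphisms of a group generated by a rigid triple

Every automorphism is, up to an inner one, of the shape `x ↦ x ^ k, s ↦ s, t ↦ t * u` with `u`
centralizing `s`; one table decides these shapes.
-/

set_option autoImplicit false

namespace Cfsg.Agent.Lib.ConwayOut

open Cfsg Cfsg.Agent.Lib.OutTrivial

universe u

/-- The data. -/
structure Tri (G : Type u) [Group G] where
  x : G
  s : G
  t : G
  p : ℕ
  r : ℕ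
  e : ℕ
  U : Set G
  prime : p.Prime
  gen : Subgroup.closure ({x, s, t} : Set G) = ⊤
  order_x : orderOf x = p
  sq : ¬ p ^ 2 ∣ Nat.card G
  conj_x : s * x * s⁻¹ = x ^ r
  conj_s : t * s * t⁻¹ = s ^ e
  cent_x : ∀ g : G, g * x = x * g → ∃ i < p, g = x ^ i
  shift : ∀ i < p, ∃ m : ℕ, s * x ^ i = x ^ m * s * (x ^ m)⁻¹
  cent_s : ∀ g : G, g * s = s * g → g ∈ U

variable {G : Type u} [Group G] [Finite G] (T : Tri G)

namespace Tri

/-- The normal form of an automorphism. -/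
theorem normal_form (φ : MulAut G) :
    ∃ g : G, ∃ k, k < T.p ∧ k ≠ 0 ∧ ∃ u ∈ T.U, φ T.x = g * T.x ^ k * g⁻¹ ∧ φ T.s = g * T.s * g⁻¹ ∧
      φ T.t = g * (T.t * u) * g⁻¹ := by
  have : Fact T.p.Prime := ⟨T.prime⟩
  have hx1 : T.x ≠ 1 := fun h => T.prime.one_lt.ne' (by rw [← T.order_x, h, orderOf_one])
  have hpowlt : ∀ m : ℕ, T.x ^ (m % T.p) = T.x ^ m := fun m => by
    rw [← T.order_x]; exact pow_mod_orderOf _ _
  have hidx : ¬ T.p ∣ (Subgroup.zpowers T.x).index := fun h => T.sq (by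
    rw [← (Subgroup.zpowers T.x).card_mul_index, Nat.card_zpowers, T.order_x, pow_two]
    exact Nat.mul_dvd_mul_left T.p h)
  have hoφ : orderOf (φ T.x) = T.p := by
    rw [← T.order_x]; exact orderOf_injective φ.toMonoidHom φ.injective T.x
  obtain ⟨g, hg⟩ := exists_conj_mem _ hidx hoφ
  obtain ⟨k, hk⟩ := (Submonoid.mem_powers_iff _ _).1 (mem_powers_iff_mem_zpowers.2 hg)
  have hk0 : k % T.p ≠ 0 := by
    intro h0
    rw [← hpowlt, h0, pow_zero] at hk
    have : φ T.x = 1 := by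
      calc φ T.x = g * (g⁻¹ * φ T.x * g) * g⁻¹ := by group
        _ = 1 := by rw [← hk]; group
    exact hx1 (φ.injective (this.trans (map_one φ).symm))
  set ψ : MulAut G := (MulAut.conj g)⁻¹ * φ with hψ
  have hψv : ∀ y, ψ y = g⁻¹ * φ y * g := fun y => by
    show (MulAut.conj g).symm (φ y) = _
    rw [MulAut.conj_symm_apply]
  have hψx : ψ T.x = T.x ^ k := by rw [hψv, hk]
  have hψs : ∃ m : ℕ, ψ T.s = T.x ^ m * T.s * (T.x ^ m)⁻¹ := by
    have hcop : Nat.Coprime k T.p := by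
      rw [Nat.coprime_comm, T.prime.coprime_iff_not_dvd]
      exact fun h => hk0 (Nat.mod_eq_zero_of_dvd h)
    obtain ⟨k', hk'⟩ := exists_pow_eq_self_of_coprime (x := T.x) (by rwa [T.order_x])
    have h1 : ψ T.s * T.x ^ k * (ψ T.s)⁻¹ = T.s * T.x ^ k * T.s⁻¹ := by
      have ha : ψ T.s * T.x ^ k * (ψ T.s)⁻¹ = (T.x ^ k) ^ T.r := by
        rw [← hψx, ← map_inv, ← map_mul, ← map_mul, T.conj_x, map_pow]
      have hb : T.s * T.x ^ k * T.s⁻¹ = (T.x ^ T.r) ^ k := by rw [← conj_pow, T.conj_x]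
      rw [ha, hb, ← pow_mul, ← pow_mul, mul_comm]
    have h2 : Commute (T.s⁻¹ * ψ T.s) (T.x ^ k) := by
      show _ = _
      calc T.s⁻¹ * ψ T.s * T.x ^ k = T.s⁻¹ * (ψ T.s * T.x ^ k * (ψ T.s)⁻¹) * ψ T.s := by group
        _ = _ := by rw [h1]; group
    have h3 : Commute (T.s⁻¹ * ψ T.s) T.x := by
      have := h2.pow_right k'
      rwa [hk'] at this
    obtain ⟨i, hi, hi'⟩ := T.cent_x _ h3.eq
    obtain ⟨m, hm⟩ := T.shift i hi
    exact ⟨m, by rw [← hm, ← hi', mul_inv_cancel_left]⟩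
  obtain ⟨m, hm⟩ := hψs
  have hφx : φ T.x = (g * T.x ^ m) * T.x ^ k * (g * T.x ^ m)⁻¹ := by
    calc φ T.x = g * ψ T.x * g⁻¹ := by rw [hψv]; group
      _ = g * T.x ^ k * g⁻¹ := by rw [hψx]
      _ = g * (T.x ^ m * T.x ^ k * (T.x ^ m)⁻¹) * g⁻¹ := by
        rw [← pow_add, add_comm, pow_add, mul_inv_cancel_right]
      _ = _ := by group
  have hφs : φ T.s = (g * T.x ^ m) * T.s * (g * T.x ^ m)⁻¹ := by
    calc φ T.s = g * ψ T.s * g⁻¹ := by rw [hψv]; group
      _ = _ := by rw [hm]; group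
  generalize g * T.x ^ m = h at hφx hφs
  refine ⟨h, k % T.p, Nat.mod_lt _ T.prime.pos, hk0, T.t⁻¹ * (h⁻¹ * φ T.t * h),
    T.cent_s _ ?_, by rw [hpowlt]; exact hφx, hφs, by group⟩
  have h1 : (h⁻¹ * φ T.t * h) * T.s * (h⁻¹ * φ T.t * h)⁻¹ = T.t * T.s * T.t⁻¹ := by
    have e2 : φ T.t * φ T.s * (φ T.t)⁻¹ = (φ T.s) ^ T.e := by
      rw [← map_inv, ← map_mul, ← map_mul, T.conj_s, map_pow]
    rw [hφs, conj_pow] at e2
    calc _ = h⁻¹ * (φ T.t * (h * T.s * h⁻¹) * (φ T.t)⁻¹) * h := by group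
      _ = h⁻¹ * (h * T.s ^ T.e * h⁻¹) * h := by rw [e2]
      _ = _ := by rw [T.conj_s]; group
  calc T.t⁻¹ * (h⁻¹ * φ T.t * h) * T.s
      = T.t⁻¹ * ((h⁻¹ * φ T.t * h) * T.s * (h⁻¹ * φ T.t * h)⁻¹) * (h⁻¹ * φ T.t * h) := by group
    _ = _ := by rw [h1]; group

variable (rels : List (List (Fin 3))) (hrel : ∀ w ∈ rels, val3 T.x T.s T.t w = 1)

include hrel

/-- Every automorphism is inner or inner times `f`. -/
theorem mem_or (f : MulAut G)
    (hk : ∀ k < T.p, k ≠ 0 → ∀ u ∈ T.U, (∃ w ∈ rels, val3 (T.x ^ k) T.s (T.t * u) w ≠ 1) ∨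
      ∃ c : G, c * T.s = T.s * c ∧ ((c * T.x = T.x ^ k * c ∧ c * T.t = T.t * u * c) ∨
        (f T.s = T.s ∧ c * f T.x = T.x ^ k * c ∧ c * f T.t = T.t * u * c)))
    (φ : MulAut G) : φ ∈ Inn G ∨ φ * f⁻¹ ∈ Inn G := by
  obtain ⟨g, k, hkp, hk0, u, hu, hx, hs, ht⟩ := T.normal_form φ
  rcases hk k hkp hk0 u hu with ⟨w, hw, hne⟩ | ⟨c, hcs, hc⟩
  · exfalso
    apply hne
    have h1 := map_val3 φ.toMonoidHom T.x T.s T.t w
    rw [hrel w hw, map_one] at h1
    simp only [MulEquiv.coe_toMonoidHom, hx, hs, ht] at h1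
    have h2 := map_val3 (MulAut.conj g).toMonoidHom (T.x ^ k) T.s (T.t * u) w
    simp only [MulEquiv.coe_toMonoidHom, MulAut.conj_apply] at h2
    rw [← h1] at h2
    exact conj_eq_one_iff.mp h2
  · have key : ∀ {a b : G}, c * a = b * c → (g * c) * a * (g * c)⁻¹ = g * b * g⁻¹ := by
      intro a b hab
      calc (g * c) * a * (g * c)⁻¹ = g * (c * a) * c⁻¹ * g⁻¹ := by group
        _ = _ := by rw [hab]; group
    rcases hc with ⟨h1, h2⟩ | ⟨hf, h1, h2⟩
    · left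
      refine ⟨g * c, MulEquiv.ext fun y => DFunLike.congr_fun
        (MonoidHom.eq_of_eqOn_dense (f := (MulAut.conj (g * c)).toMonoidHom)
          (g := φ.toMonoidHom) T.gen ?_) y⟩
      rintro z (rfl | rfl | rfl) <;> simp only [MulEquiv.coe_toMonoidHom, MulAut.conj_apply]
      · rw [hx]; exact key h1
      · rw [hs]; exact key hcs
      · rw [ht]; exact key h2
    · right
      refine ⟨g * c, ?_⟩
      have he : MulAut.conj (g * c) * f = φ := MulEquiv.ext fun y => DFunLike.congr_fun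
        (MonoidHom.eq_of_eqOn_dense (f := (MulAut.conj (g * c) * f : MulAut G).toMonoidHom)
          (g := φ.toMonoidHom) T.gen (by
            rintro z (rfl | rfl | rfl) <;>
              simp only [MulEquiv.coe_toMonoidHom, MulAut.mul_apply, MulAut.conj_apply]
            · rw [hx]; exact key h1
            · rw [hs, hf]; exact key hcs
            · rw [ht]; exact key h2)) y
      rw [← he, mul_inv_cancel_right]

/-- Trivial outer automorphism group. -/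
theorem card_out_one
    (hk : ∀ k < T.p, k ≠ 0 → ∀ u ∈ T.U, (∃ w ∈ rels, val3 (T.x ^ k) T.s (T.t * u) w ≠ 1) ∨
      ∃ c : G, c * T.s = T.s * c ∧ c * T.x = T.x ^ k * c ∧ c * T.t = T.t * u * c) :
    Nat.card (Out G) = 1 := by
  have hin : ∀ φ : MulAut G, φ ∈ Inn G := fun φ => by
    rcases T.mem_or rels hrel 1 (fun k hkp hk0 u hu => (hk k hkp hk0 u hu).imp_right
      fun ⟨c, h1, h2⟩ => ⟨c, h1, Or.inl h2⟩) φ with h | h
    · exact h
    · rwa [inv_one, mul_one] at h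
  have hsub : Subsingleton (Out G) := by
    refine ⟨fun a b => ?_⟩
    obtain ⟨x, rfl⟩ := QuotientGroup.mk_surjective a
    obtain ⟨y, rfl⟩ := QuotientGroup.mk_surjective b
    rw [QuotientGroup.eq]
    exact hin _
  exact Nat.card_unique

/-- Outer automorphism group of order two. -/
theorem card_out_two (f : MulAut G) (hne : f ∉ Inn G)
    (hk : ∀ k < T.p, k ≠ 0 → ∀ u ∈ T.U, (∃ w ∈ rels, val3 (T.x ^ k) T.s (T.t * u) w ≠ 1) ∨
      ∃ c : G, c * T.s = T.s * c ∧ ((c * T.x = T.x ^ k * c ∧ c * T.t = T.t * u * c) ∨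
        (f T.s = T.s ∧ c * f T.x = T.x ^ k * c ∧ c * f T.t = T.t * u * c))) :
    Nat.card (Out G) = 2 := by
  have hne' : (QuotientGroup.mk f : Out G) ≠ 1 := fun h =>
    hne ((QuotientGroup.eq_one_iff _).mp h)
  rw [Nat.card_eq_two_iff]
  refine ⟨QuotientGroup.mk f, 1, hne', Set.eq_univ_of_forall fun a => ?_⟩
  obtain ⟨φ, rfl⟩ := QuotientGroup.mk_surjective a
  rcases T.mem_or rels hrel f hk φ with h | h
  · exact Or.inr ((QuotientGroup.eq_one_iff _).mpr h)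
  · left
    exact mul_inv_eq_one.mp
      ((QuotientGroup.eq_one_iff _).mpr h : (QuotientGroup.mk (φ * f⁻¹) : Out G) = 1)

end Tri

end Cfsg.Agent.Lib.ConwayOut
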