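import Cfsg.Agent.Lib.ConwayOut.Fixed
import Cfsg.Agent.Lib.ConwayOut.Criterion
import Cfsg.Agent.Lib.OutTrivial.GolayModel
import Cfsg.Agent.Lib.SporStruct.OrbitTree

/-!
# Automorphisms of the joint stabiliser of two lattice vectors: certificates

The group `G` fixes two vectors; the stabiliser of the axis vector of the extra point in `G` is a
group of point permutations given by conditions.  A certificate consists of a triple of generators,
the centralizers of two of them, the orbit of the axis vector and a table of relations.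
-/

set_option autoImplicit false

namespace Cfsg.Agent.Lib.ConwayOut

open Cfsg Cfsg.Agent.Lib Cfsg.Agent.Lib.Leech Cfsg.Agent.Lib.OutTrivial

/-- The word of a list of letters. -/
def valW (a b c : Word) : List (Fin 3) → Word
  | [] => []
  | i :: is => ![a, b, c] i ++ valW a b c is

/-- The certificate. -/
structure Cert where
  spec : Spec
  V : ℕ
  T : ℕ
  coefV : ℤ × ℤ
  coefT : ℤ × ℤ
  p : ℕ
  r : ℕ
  e : ℕ
  w : ℕ
  N : ℕ
  x : ℕ
  s : ℕ
  t : Word
  o : Word
  oi : Word
  cs : List Word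
  as : List ℕ
  aw : List ℕ
  lx : List Level
  ls : List Level
  lw : List Level
  cX : Cls
  cS : Cls
  cW : Cls
  gens : List ℕ
  gw : List (List (Fin 3))
  rels : List (List (Fin 3))
  tree : SporStruct.OrbitTree.MTree
  tab : List (List (ℕ × ℕ × ℕ))

/-- A packed vector is a combination of two others. -/
def combOk (c : ℤ × ℤ) (a b n : ℕ) : Bool :=
  (List.range 24).all fun i => decide ((Computation.getW 5 n i : ℤ) =
    c.1 * ((Computation.getW 5 a i : ℤ) - 16) + c.2 * ((Computation.getW 5 b i : ℤ) - 16) + 16)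

namespace Cert

variable (D : Cert)

/-- The word of the first generator. -/
def X : Word := [.perm D.x]

/-- The word of the second generator. -/
def S : Word := [.perm D.s]

/-- The centralizer of the second generator. -/
def U : List Word := D.cs.flatMap fun c => D.as.map fun a => c ++ [.perm a]

/-- The words lie in the group. -/
def fixW (w : Word) : Bool := okW w && Nat.beq (appW w D.V) D.V && Nat.beq (appW w D.T) D.T

/-- The conditions on the image of the axis vector. -/
def conds : List (ℕ × ℤ) := [(D.V, dotZ D.V (axP 23)), (D.T, dotZ D.T (axP 23))]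

/-- Generators and orbit. -/
def okGen : Bool :=
  Nat.beq D.gens.length D.gw.length &&
  D.spec.ok && ((List.range D.gens.length).all fun i => D.spec.mem (D.gens.getD i 0) &&
    eqW (valW D.X D.S D.t (D.gw.getD i [])) [.perm (D.gens.getD i 0)]) &&
  D.tree.check (fun i n => appW ([D.X, D.S, D.t].getD i []) n) [0, 1, 2] (axP 23) &&
  SporStruct.OrbitTree.incList D.tree.keys && Nat.beq D.tree.keys.length D.N

/-- The centralizers. -/
def okCent : Bool :=
  fixedOk D.cX D.x D.conds [axP 23] &&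
  searchOk D.spec D.x D.x ((List.range D.p).map (cpow D.x)) D.lx &&
  fixedOk D.cS D.s D.conds (D.cs.map fun c => appW c (axP 23)) &&
  searchOk D.spec D.s D.s D.as D.ls && D.as.all Golay.inM24 &&
  D.cs.all fun c => D.fixW c && eqW (c ++ D.S) (D.S ++ c)

/-- The triple. -/
def okTri : Bool :=
  D.fixW D.X && D.fixW D.S && D.fixW D.t &&
  Nat.beq (appW D.X (axP 23)) (axP 23) && Nat.beq (appW D.S (axP 23)) (axP 23) &&
  ((List.range (D.p + 1)).all fun i => Golay.inM24 (cpow D.x i)) &&
  Nat.beq (cpow D.x D.p) Golay.oneCode && notOne D.x && Golay.inM24 (cpow D.x D.r) &&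
  eqW (D.S ++ D.X) ([.perm (cpow D.x D.r)] ++ D.S) &&
  Golay.inM24 (cpow D.s D.e) && eqW (D.t ++ D.S) ([.perm (cpow D.s D.e)] ++ D.t) &&
  (List.range D.p).all fun i => (List.range D.p).any fun m =>
    eqW (D.S ++ [.perm (cpow D.x i)] ++ [.perm (cpow D.x m)]) ([.perm (cpow D.x m)] ++ D.S)

/-- The relations. -/
def okRel : Bool := D.rels.all fun w => eqW (valW D.X D.S D.t w) []

/-- One entry of the table. -/
def entryOk (k : ℕ) (u : Word) (e : ℕ × ℕ × ℕ) : Bool :=
  let xk : Word := [.perm (cpow D.x k)]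
  bif Nat.beq e.1 0 then
    Nat.blt e.2.1 D.rels.length && Nat.blt e.2.2 24 &&
      !Nat.beq (appW (valW xk D.S (D.t ++ u) (D.rels.getD e.2.1 [])) (axP e.2.2)) (axP e.2.2)
  else
    Nat.blt e.2.1 D.U.length &&
    let c := D.U.getD e.2.1 []
    D.fixW c && eqW (c ++ D.S) (D.S ++ c) &&
    bif Nat.beq e.1 1 then
      eqW (c ++ D.X) (xk ++ c) && eqW (c ++ D.t) (D.t ++ u ++ c)
    else
      eqW (c ++ (D.o ++ D.X ++ D.oi)) (xk ++ c) && eqW (c ++ (D.o ++ D.t ++ D.oi)) (D.t ++ u ++ c)

/-- The table is right. -/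
def okTab : Bool :=
  (List.range D.p).all fun k => Nat.beq k 0 ||
    (List.range D.U.length).all fun j =>
      D.entryOk k (D.U.getD j []) ((D.tab.getD (k - 1) []).getD j (0, 0, 0))

/-- Every survivor is an inner one. -/
def noOuter : Bool := D.tab.all fun l => l.all fun e => Nat.blt e.1 2

/-- The outer automorphism. -/
def okOuter : Bool :=
  okW D.o && okW D.oi && eqW (D.o ++ D.oi) [] &&
  combOk D.coefV D.V D.T (appW D.oi D.V) && combOk D.coefT D.V D.T (appW D.oi D.T) &&
  eqW (D.o ++ D.S) (D.S ++ D.o) &&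
  Golay.inM24 (cpow D.x D.w) && eqW (D.o ++ D.X ++ D.oi) [.perm (cpow D.x D.w)] &&
  fixedOk D.cW (cpow D.x D.w) D.conds [axP 23] &&
  searchOk D.spec (cpow D.x D.w) D.x D.aw D.lw && D.aw.all Golay.inM24 &&
  D.aw.all fun a => !(eqW ([.perm a] ++ D.S) (D.S ++ [.perm a]) &&
    eqW ([.perm a] ++ D.t) (D.o ++ D.t ++ D.oi ++ [.perm a]))

theorem cs_ok {D : Cert} (h : D.okCent = true) : ∀ c ∈ D.cs, D.fixW c = true := fun c hc => by
  simp only [Cert.okCent, Bool.and_eq_true, List.all_eq_true] at h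
  exact (h.2 c hc).1

theorem as_ok {D : Cert} (h : D.okCent = true) : ∀ a ∈ D.as, Golay.inM24 a = true := fun a ha => by
  simp only [Cert.okCent, Bool.and_eq_true, List.all_eq_true] at h
  exact h.1.2 a ha

end Cert

theorem permElt_eq {c : ℕ} (h : Golay.inM24 c = true) :
    permElt c = (permHom ⟨Golay.gperm c, Golay.gperm_mem_M24 h⟩)⁻¹ := dif_pos h

theorem eltW_perm (c : ℕ) : eltW [Atom.perm c] = permElt c := by
  simp [eltW, Atom.elt]

theorem permElt_pow {c : ℕ} (hc : Golay.inM24 c = true) {n : ℕ} (hn : Golay.inM24 (cpow c n) = true) :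
    permElt (cpow c n) = permElt c ^ n := by
  rw [permElt_eq hc, permElt_eq hn, inv_pow, ← map_pow]
  exact congrArg (fun q => (permHom q)⁻¹) (Subtype.ext (Golay.powCode (Golay.okCode_of_inM24 hc) n).2)

theorem permHom_apply_fix {π : M24} {y : leechLattice} (h : permHom π • y = y) (p : GolayPt) :
    vec y ((π : Equiv.Perm GolayPt) p) = vec y p := by
  have h' := congrFun (congrArg vec h) ((π : Equiv.Perm GolayPt) p)
  rw [permHom_apply, Equiv.symm_apply_apply] at h'
  exact h'.symm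

theorem permElt_fix {c : ℕ} (hc : Golay.inM24 c = true) {y : leechLattice} (h : permElt c • y = y)
    (p : GolayPt) : vec y (Golay.gperm c p) = vec y p := by
  refine permHom_apply_fix (π := ⟨Golay.gperm c, Golay.gperm_mem_M24 hc⟩) ?_ p
  rw [permElt_eq hc, inv_smul_eq_iff] at h
  exact h.symm

/-- The setting of a certificate. -/
structure Ctx (D : Cert) where
  v : leechLattice
  u : leechLattice
  nv : sqNorm (vec v) ≤ 64
  nu : sqNorm (vec u) ≤ 64
  encv : pk v = D.V
  encu : pk u = D.T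
  stab : ∀ g : Co0, g • v = v → g • u = u → g • eightE none = eightE none →
    ∃ π : M24, D.spec.Holds π ∧ g = permHom π

namespace Ctx

variable {D : Cert} (C : Ctx D)

/-- The group. -/
noncomputable def H : Subgroup Co0 := MulAction.stabilizer Co0 C.v ⊓ MulAction.stabilizer Co0 C.u

theorem eltW_mem {w : Word} (h : D.fixW w = true) : eltW w ∈ C.H := by
  simp only [Cert.fixW, Bool.and_eq_true, Nat.beq_eq] at h
  obtain ⟨⟨hw, hv⟩, hu⟩ := h
  refine ⟨pk_injective (by rw [norm_smul']; exact C.nv) C.nv ?_,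
    pk_injective (by rw [norm_smul']; exact C.nu) C.nu ?_⟩
  · show pk (eltW w • C.v) = pk C.v
    rw [eltW_app hw _ C.nv, C.encv]; exact hv
  · show pk (eltW w • C.u) = pk C.u
    rw [eltW_app hw _ C.nu, C.encu]; exact hu

/-- A member given by a word. -/
noncomputable def el {w : Word} (h : D.fixW w = true) : C.H := ⟨eltW w, C.eltW_mem h⟩

theorem okW_of_fixW {w : Word} (h : D.fixW w = true) : okW w = true := by
  simp only [Cert.fixW, Bool.and_eq_true] at h
  exact h.1.1

theorem enc_none : pk (eightE none) = axP 23 := pk_eightE none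

theorem norm_axis (g : Co0) (p : GolayPt) : sqNorm (vec (g • eightE p)) ≤ 64 := by
  rw [norm_smul', sqNorm_eightE]

theorem image_conds {g : Co0} (hg : g ∈ C.H) :
    sqNorm (vec (g • eightE none)) = 64 ∧
      ∀ e ∈ D.conds, dotZ e.1 (pk (g • eightE none)) = e.2 := by
  refine ⟨by rw [norm_smul', sqNorm_eightE], ?_⟩
  intro e he
  have h1 := norm_axis g none
  have h0 : sqNorm (vec (eightE none)) ≤ 64 := (sqNorm_eightE none).le
  simp only [Cert.conds, List.mem_cons, List.not_mem_nil, or_false] at he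
  rcases he with rfl | rfl
  · show dotZ D.V _ = dotZ D.V (axP 23)
    rw [← C.encv, ← enc_none, dotZ_pk C.nv h1, dotZ_pk C.nv h0]
    conv_lhs => rw [← show g • C.v = C.v from hg.1, dot_smul]
  · show dotZ D.T _ = dotZ D.T (axP 23)
    rw [← C.encu, ← enc_none, dotZ_pk C.nu h1, dotZ_pk C.nu h0]
    conv_lhs => rw [← show g • C.u = C.u from hg.2, dot_smul]

theorem val3_elt {a b c : C.H} {wa wb wc : Word} (ha : (a : Co0) = eltW wa) (hb : (b : Co0) = eltW wb)
    (hc : (c : Co0) = eltW wc) :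
    ∀ l, ((val3 a b c l : C.H) : Co0) = eltW (valW wa wb wc l)
  | [] => rfl
  | i :: is => by
    show ((![a, b, c] i * val3 a b c is : C.H) : Co0) = eltW (![wa, wb, wc] i ++ valW wa wb wc is)
    rw [Subgroup.coe_mul, eltW_append, val3_elt ha hb hc is]
    congr 1
    fin_cases i
    exacts [ha, hb, hc]

end Ctx

theorem okW_valW {a b c : Word} (ha : okW a = true) (hb : okW b = true) (hc : okW c = true) :
    ∀ l, okW (valW a b c l) = true
  | [] => rfl
  | i :: is => by
    show okW (![a, b, c] i ++ valW a b c is) = true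
    refine okW_append.mpr ⟨?_, okW_valW ha hb hc is⟩
    fin_cases i
    exacts [ha, hb, hc]

theorem getD_mem_of_lt {α : Type*} {l : List α} {i : ℕ} {d : α} (h : i < l.length) :
    l.getD i d ∈ l := by
  rw [List.getD_eq_getElem _ _ h]; exact List.getElem_mem h

namespace Ctx

variable {D : Cert} (C : Ctx D) {K : Subgroup (Equiv.Perm GolayPt)}
  {steps : List (Computation.Step ℕ)} {ch : List (Computation.Level ℕ)}

/-- An intertwiner fixing the axis vector. -/
theorem of_fixes {c c' : ℕ} {allowed : List ℕ} {ls : List Level}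
    (hs : searchOk D.spec c c' allowed ls = true) (hc : Golay.inM24 c = true)
    (hc' : Golay.inM24 c' = true) {g : Co0} (hg : g ∈ C.H) (hO : g • eightE none = eightE none)
    (hcomm : g * permElt c = permElt c' * g) :
    ∃ a ∈ allowed, ∃ h : Golay.gperm a ∈ M24, g = permHom ⟨Golay.gperm a, h⟩ := by
  obtain ⟨π, hπ, rfl⟩ := C.stab g hg.1 hg.2 hO
  rw [permElt_eq hc, permElt_eq hc', ← map_inv, ← map_inv, ← map_mul, ← map_mul] at hcomm
  have h := congrArg Subtype.val (permHom_injective hcomm)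
  simp only [Subgroup.coe_mul, Subgroup.coe_inv] at h
  have h' : (π : Equiv.Perm GolayPt) * Golay.gperm c = Golay.gperm c' * π := by
    calc (π : Equiv.Perm GolayPt) * Golay.gperm c
        = Golay.gperm c' * ((Golay.gperm c')⁻¹ * π) * Golay.gperm c := by group
      _ = Golay.gperm c' * ((π : Equiv.Perm GolayPt) * (Golay.gperm c)⁻¹) * Golay.gperm c := by rw [h]
      _ = _ := by group
  obtain ⟨a, ha, e⟩ := searchOk_spec hs hπ h'
  exact ⟨a, ha, e ▸ π.2, congrArg permHom (Subtype.ext e)⟩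

set_option maxHeartbeats 800000 in
/-- The triple of a certificate from generation and the two centralizers. -/
theorem tri_of (hT : D.okTri = true) (hfx : fixedOk D.cX D.x D.conds [axP 23] = true)
    (hsx' : searchOk D.spec D.x D.x ((List.range D.p).map (cpow D.x)) D.lx = true)
    (hp : D.p.Prime) (hsq : ¬ D.p ^ 2 ∣ Nat.card C.H)
    (hgen : ∀ x s t : C.H, (x : Co0) = eltW D.X → (s : Co0) = eltW D.S → (t : Co0) = eltW D.t →
      Subgroup.closure ({x, s, t} : Set C.H) = ⊤)
    (hcs : ∀ g : C.H, (g : Co0) * eltW D.S = eltW D.S * g →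
      ∃ j < D.U.length, (g : Co0) = eltW (D.U.getD j [])) :
    ∃ T : Tri C.H, T.p = D.p ∧ (T.x : Co0) = eltW D.X ∧ (T.s : Co0) = eltW D.S ∧
      (T.t : Co0) = eltW D.t ∧ (∀ u ∈ T.U, ∃ j < D.U.length, (u : Co0) = eltW (D.U.getD j [])) ∧
      (∀ j < D.U.length, ∀ y : C.H, (y : Co0) = eltW (D.U.getD j []) → y ∈ T.U) := by
  simp only [Cert.okTri, Bool.and_eq_true, List.all_eq_true, List.any_eq_true, List.mem_range,
    Nat.beq_eq] at hT
  obtain ⟨⟨⟨⟨⟨⟨⟨⟨⟨⟨⟨⟨hX, hS⟩, ht⟩, hxO⟩, hsO⟩, hpow⟩, hxp⟩, hx1⟩, hrM⟩, hsx⟩, hse⟩, hts⟩, hshift⟩ := hT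
  have hxM : Golay.inM24 D.x = true := by
    have := okW_of_fixW hX; simpa [okW, Cert.X, Atom.ok] using this
  have hsM : Golay.inM24 D.s = true := by
    have := okW_of_fixW hS; simpa [okW, Cert.S, Atom.ok] using this
  set x := C.el hX with hxdef
  set s := C.el hS with hsdef
  set t := C.el ht with htdef
  have hok : ∀ {w}, D.fixW w = true → okW w = true := fun h => okW_of_fixW h
  have okp : ∀ {i}, i < D.p + 1 → okW [Atom.perm (cpow D.x i)] = true := fun hi => by
    simpa [okW, Atom.ok] using hpow _ hi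
  have xpow : ∀ i < D.p + 1, ((x ^ i : C.H) : Co0) = eltW [Atom.perm (cpow D.x i)] := fun i hi => by
    rw [SubgroupClass.coe_pow, eltW_perm, permElt_pow hxM (hpow i hi)]
    exact congrArg (· ^ i) (eltW_perm D.x)
  have hx1' : x ≠ 1 := by
    intro h
    have h' := congrArg Subtype.val h
    rw [hxdef] at h'
    simp only [el, Cert.X, eltW_perm, OneMemClass.coe_one] at h'
    rw [permElt_eq hxM, inv_eq_one, ← map_one permHom] at h'
    have := congrArg Subtype.val (permHom_injective h')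
    simp only [OneMemClass.coe_one] at this
    simp only [notOne, List.any_eq_true, List.mem_range, Bool.not_eq_true'] at hx1
    obtain ⟨i, hi, hne⟩ := hx1
    have h1 := Golay.idx_gperm (Golay.okCode_of_inM24 hxM) (Golay.pt i)
    rw [this, Equiv.Perm.one_apply, Golay.idx_pt hi] at h1
    rw [← h1, Nat.beq_refl] at hne
    exact Bool.false_ne_true hne.symm
  have hxp' : x ^ D.p = 1 := by
    have hMp : Golay.inM24 (cpow D.x D.p) = true := hpow _ (Nat.lt_succ_self _)
    refine Subtype.ext ?_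
    rw [xpow _ (Nat.lt_succ_self _), eltW_perm, permElt_eq hMp, OneMemClass.coe_one, inv_eq_one,
      ← map_one permHom]
    refine congrArg permHom (Subtype.ext ?_)
    show Golay.gperm (cpow D.x D.p) = 1
    rw [hxp]; exact Golay.gperm_oneCode
  have hord : orderOf x = D.p := by
    haveI : Fact D.p.Prime := ⟨hp⟩
    exact orderOf_eq_prime hxp' hx1'
  have hxr : ∀ n, x ^ n = x ^ (n % D.p) := fun n => by rw [← hord, pow_mod_orderOf]
  have spow : ((s ^ D.e : C.H) : Co0) = eltW [Atom.perm (cpow D.s D.e)] := by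
    rw [SubgroupClass.coe_pow, eltW_perm, permElt_pow hsM hse]
    exact congrArg (· ^ D.e) (eltW_perm D.s)
  refine ⟨{
    x := x, s := s, t := t, p := D.p, r := D.r, e := D.e
    U := {u | ∃ j < D.U.length, (u : Co0) = eltW (D.U.getD j [])}
    prime := hp
    gen := hgen x s t rfl rfl rfl
    order_x := hord
    sq := hsq
    conj_x := ?_
    conj_s := ?_
    cent_x := ?_
    shift := ?_
    cent_s := ?_ }, rfl, rfl, rfl, rfl, fun u hu => hu, fun j hj y hy => ⟨j, hj, hy⟩⟩
  · have hr : okW [Atom.perm (cpow D.x D.r)] = true := by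
      simpa [okW, Atom.ok] using hrM
    have h := eltW_eq (okW_append.mpr ⟨hok hS, hok hX⟩) (okW_append.mpr ⟨hr, hok hS⟩) hsx
    rw [eltW_append, eltW_append, eltW_perm, permElt_pow hxM hrM] at h
    refine mul_inv_eq_iff_eq_mul.mpr (Subtype.ext ?_)
    rw [Subgroup.coe_mul, Subgroup.coe_mul, SubgroupClass.coe_pow]
    refine h.trans ?_
    rw [← eltW_perm D.x]
    rfl
  · have hr : okW [Atom.perm (cpow D.s D.e)] = true := by simpa [okW, Atom.ok] using hse
    have h := eltW_eq (okW_append.mpr ⟨hok ht, hok hS⟩) (okW_append.mpr ⟨hr, hok ht⟩) hts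
    rw [eltW_append, eltW_append, ← spow] at h
    exact mul_inv_eq_iff_eq_mul.mpr (Subtype.ext h)
  · intro g hg
    have hcomm : (g : Co0) * permElt D.x = permElt D.x * g := by
      have := congrArg Subtype.val hg
      rw [Subgroup.coe_mul, Subgroup.coe_mul, show (x : Co0) = permElt D.x from eltW_perm D.x] at this
      exact this
    have hO : (g : Co0) • eightE none = eightE none := by
      obtain ⟨hn, hd⟩ := C.image_conds g.2
      have hfix : permElt D.x • ((g : Co0) • eightE none) = (g : Co0) • eightE none := by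
        rw [← mul_smul, ← hcomm, mul_smul]
        refine congrArg ((g : Co0) • ·) ?_
        rw [← eltW_perm]
        refine pk_injective (norm_axis _ none) (sqNorm_eightE none).le ?_
        show pk (eltW D.X • eightE none) = _
        rw [eltW_app (hok hX) (eightE none) (sqNorm_eightE none).le, enc_none]
        exact hxO
      have := fixed_mem hfx (permElt_fix hxM hfix) hn hd
      rw [List.mem_singleton] at this
      exact pk_injective (norm_axis _ none) (sqNorm_eightE none).le (this.trans enc_none.symm)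
    obtain ⟨a, ha, h, e⟩ := C.of_fixes hsx' hxM hxM g.2 hO hcomm
    obtain ⟨i, hi, rfl⟩ := List.mem_map.mp ha
    rw [List.mem_range] at hi
    have hxi : (permHom ⟨Golay.gperm (cpow D.x i), h⟩ : Co0) = ((x ^ i : C.H) : Co0)⁻¹ := by
      rw [xpow i (by omega), eltW_perm, permElt_eq (hpow i (by omega)), inv_inv]
    obtain ⟨j, hj, hje⟩ : ∃ j < D.p, (x ^ i)⁻¹ = x ^ j := by
      refine ⟨((D.p - i) % D.p), Nat.mod_lt _ hp.pos, ?_⟩
      rw [← hxr, inv_eq_iff_mul_eq_one, ← pow_add, Nat.add_sub_cancel' hi.le, hxp']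
    refine ⟨j, hj, Subtype.ext ?_⟩
    rw [e, hxi, ← hje, Subgroup.coe_inv]
  · intro i hi
    obtain ⟨m, hm, he⟩ := hshift i hi
    have h := eltW_eq (okW_append.mpr ⟨okW_append.mpr ⟨hok hS, okp (by omega)⟩, okp (by omega)⟩)
      (okW_append.mpr ⟨okp (by omega), hok hS⟩) he
    rw [eltW_append, eltW_append, eltW_append, ← xpow i (by omega), ← xpow m (by omega)] at h
    refine ⟨m, eq_mul_inv_of_mul_eq (Subtype.ext ?_)⟩
    rw [Subgroup.coe_mul, Subgroup.coe_mul, Subgroup.coe_mul]
    exact h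
  · intro g hg
    exact hcs g (congrArg Subtype.val hg)

/-- The centralizer of the second generator. -/
theorem cent_s_mem (hC : D.okCent = true) (hT : D.okTri = true) {g : Co0} (hgH : g ∈ C.H)
    (hg : g * eltW D.S = eltW D.S * g) :
    ∃ j < D.U.length, g = eltW (D.U.getD j []) := by
  simp only [Cert.okTri, Bool.and_eq_true, List.all_eq_true, List.any_eq_true, List.mem_range,
    Nat.beq_eq] at hT
  obtain ⟨⟨⟨⟨⟨⟨⟨⟨⟨⟨⟨⟨-, hS⟩, -⟩, -⟩, hsO⟩, -⟩, -⟩, -⟩, -⟩, -⟩, -⟩, -⟩, -⟩ := hT
  simp only [Cert.okCent, Bool.and_eq_true, List.all_eq_true] at hC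
  obtain ⟨⟨⟨⟨⟨-, -⟩, hfs⟩, hss⟩, has⟩, hcs⟩ := hC
  have hok : ∀ {w}, D.fixW w = true → okW w = true := fun h => okW_of_fixW h
  have hsM : Golay.inM24 D.s = true := by
    have := okW_of_fixW hS; simpa [okW, Cert.S, Atom.ok] using this
  have hcomm : g * permElt D.s = permElt D.s * g := by
    rw [show permElt D.s = eltW D.S from (eltW_perm D.s).symm]; exact hg
  obtain ⟨hn, hd⟩ := C.image_conds hgH
  have hfix : permElt D.s • (g • eightE none) = g • eightE none := by
    rw [← mul_smul, ← hcomm, mul_smul]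
    refine congrArg (g • ·) ?_
    rw [← eltW_perm]
    refine pk_injective (norm_axis _ none) (sqNorm_eightE none).le ?_
    show pk (eltW D.S • eightE none) = _
    rw [eltW_app (hok hS) (eightE none) (sqNorm_eightE none).le, enc_none]
    exact hsO
  have hmem := fixed_mem hfs (permElt_fix hsM hfix) hn hd
  obtain ⟨c, hc', hce⟩ := List.mem_map.mp hmem
  obtain ⟨hcF, hcc⟩ := hcs c hc'
  have hcsc := eltW_eq (okW_append.mpr ⟨hok hcF, hok hS⟩) (okW_append.mpr ⟨hok hS, hok hcF⟩) hcc
  rw [eltW_append, eltW_append, show eltW D.S = permElt D.s from eltW_perm D.s] at hcsc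
  set m : Co0 := g⁻¹ * eltW c with hm
  have hmH : m ∈ C.H := mul_mem (C.H.inv_mem hgH) (C.eltW_mem hcF)
  have hmO : m • eightE none = eightE none := by
    rw [hm, mul_smul, inv_smul_eq_iff]
    refine pk_injective (norm_axis _ none) (norm_axis _ none) ?_
    rw [eltW_app (hok hcF) (eightE none) (sqNorm_eightE none).le, enc_none, hce]
  have hmc : m * permElt D.s = permElt D.s * m := by
    rw [hm, mul_assoc, hcsc, ← mul_assoc, ← mul_assoc]
    refine congrArg (· * eltW c) ?_
    rw [inv_mul_eq_iff_eq_mul, ← mul_assoc, hcomm, mul_inv_cancel_right]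
  obtain ⟨a, ha, h, e⟩ := C.of_fixes hss hsM hsM hmH hmO hmc
  have haM : Golay.inM24 a = true := has a ha
  have hu : c ++ [Atom.perm a] ∈ D.U := List.mem_flatMap.mpr ⟨c, hc', List.mem_map.mpr ⟨a, ha, rfl⟩⟩
  obtain ⟨j, hj, hje⟩ := List.getElem_of_mem hu
  refine ⟨j, hj, ?_⟩
  rw [List.getD_eq_getElem _ _ hj, hje, eltW_append, eltW_perm, permElt_eq haM]
  have hgm : g = eltW c * m⁻¹ := by rw [hm]; group
  rw [hgm, e]

set_option maxHeartbeats 800000 in
/-- The triple of a certificate. -/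
theorem exists_tri (hG : D.okGen = true) (hC : D.okCent = true) (hT : D.okTri = true)
    (hK : ∀ g, g ∈ K ↔ D.spec.Holds g) (hnone : ∀ g : K, (g : Equiv.Perm GolayPt) none = none) (hp : D.p.Prime) (hsq : ¬ D.p ^ 2 ∣ Nat.card C.H)
    (hc : (Computation.permRep 24 5 (by decide)).checkClosure D.gens steps ch = true)
    (hcardK : Nat.card K = (Computation.permRep 24 5 (by decide)).order ch)
    (hcard : Nat.card C.H ≤ D.N * Nat.card K) :
    ∃ T : Tri C.H, T.p = D.p ∧ (T.x : Co0) = eltW D.X ∧ (T.s : Co0) = eltW D.S ∧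
      (T.t : Co0) = eltW D.t ∧ (∀ u ∈ T.U, ∃ j < D.U.length, (u : Co0) = eltW (D.U.getD j [])) ∧
      (∀ j < D.U.length, ∀ y : C.H, (y : Co0) = eltW (D.U.getD j []) → y ∈ T.U) := by
  have hT' := hT
  have hC' := hC
  simp only [Cert.okCent, Bool.and_eq_true] at hC'
  obtain ⟨⟨⟨⟨⟨hfx, hsx'⟩, -⟩, -⟩, -⟩, -⟩ := hC'
  simp only [Cert.okTri, Bool.and_eq_true] at hT'
  obtain ⟨⟨⟨⟨⟨⟨⟨⟨⟨⟨⟨⟨hX, hS⟩, ht⟩, -⟩, -⟩, -⟩, -⟩, -⟩, -⟩, -⟩, -⟩, -⟩, -⟩ := hT'
  have hok : ∀ {w}, D.fixW w = true → okW w = true := fun h => okW_of_fixW h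
  refine C.tri_of hT hfx hsx' hp hsq ?_ fun g hg => C.cent_s_mem hC hT g.2 hg
  intro x' s' t' hx' hs' ht'
  obtain rfl : x' = C.el hX := Subtype.ext hx'
  obtain rfl : s' = C.el hS := Subtype.ext hs'
  obtain rfl : t' = C.el ht := Subtype.ext ht'
  set x := C.el hX with hxdef
  set s := C.el hS with hsdef
  set t := C.el ht with htdef
  simp only [Cert.okGen, Bool.and_eq_true, List.all_eq_true, List.mem_range, Nat.beq_eq] at hG
  obtain ⟨⟨⟨⟨⟨hlen, hSok⟩, hgw⟩, htree⟩, hinc⟩, hN⟩ := hG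
  set L : Subgroup C.H := Subgroup.closure ({x, s, t} : Set C.H) with hL
  have hmem : ∀ l, (val3 x s t l : C.H) ∈ L := by
    intro l
    induction l with
    | nil => exact one_mem _
    | cons i is ih =>
      refine mul_mem ?_ ih
      fin_cases i <;> exact Subgroup.subset_closure (by simp)
  let L0 : Subgroup Co0 := L.map C.H.subtype
  let f : M24 →* Co0 := permHom
  let L1 : Subgroup (Equiv.Perm GolayPt) := (L0.comap f).map M24.subtype
  have hgens : ∀ c ∈ D.gens, Golay.gperm c ∈ K ∧ Golay.gperm c ∈ L1 := by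
    intro c hc'
    obtain ⟨i, hi, rfl⟩ := List.getElem_of_mem hc'
    obtain ⟨h1, h2⟩ := hgw i hi
    rw [List.getD_eq_getElem _ _ hi] at h1 h2
    obtain ⟨hok', hholds⟩ := D.spec.mem_spec hSok h1
    have h1' : Golay.inM24 D.gens[i] = true := by
      simp only [Spec.mem, Bool.and_eq_true] at h1; exact h1.1.1
    have hm := eltW_eq (okW_valW (hok hX) (hok hS) (hok ht) _) (by simpa [okW, Atom.ok] using h1') h2
    rw [eltW_perm, permElt_eq h1'] at hm
    have hv := C.val3_elt (a := x) (b := s) (c := t) rfl rfl rfl (D.gw.getD i [])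
    have hin : (permHom ⟨Golay.gperm D.gens[i], Golay.gperm_mem_M24 h1'⟩)⁻¹ ∈ L0 :=
      ⟨_, hmem _, hv.trans hm⟩
    exact ⟨(hK _).2 hholds, ⟨⟨_, Golay.gperm_mem_M24 h1'⟩, by simpa [f] using L0.inv_mem hin, rfl⟩⟩
  have hKle : K ≤ L1 := by
    rw [Golay.closure_eq_of_cert hc (fun c hc' => (hgens c hc').1) hcardK, Subgroup.closure_le]
    rintro _ ⟨c, hc', rfl⟩
    exact (hgens c hc').2
  have hK24 : K ≤ M24 := fun g hg => ((hK g).1 hg).1
  have hKf : ∀ g : K, permHom ⟨g, hK24 g.2⟩ ∈ L0 := by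
    intro g
    obtain ⟨q, hq, he⟩ := hKle g.2
    have : q = ⟨g, hK24 g.2⟩ := Subtype.ext he
    exact this ▸ hq
  -- the orbit
  have horb : ∀ n ∈ D.tree.keys, ∃ g ∈ L0, pk (g • eightE none) = n := by
    refine SporStruct.OrbitTree.MTree.check_sound htree
      (fun n => ∃ g ∈ L0, pk (g • eightE none) = n)
      ⟨1, one_mem _, by rw [one_smul, enc_none]⟩ ?_
    rintro i hi n ⟨g, hg, rfl⟩
    have key : ∀ {w : Word} (hw : D.fixW w = true), C.el hw ∈ L →
        ∃ g' ∈ L0, pk (g' • eightE none) = appW w (pk (g • eightE none)) := fun {w} hw hL' =>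
      ⟨eltW w * g, L0.mul_mem ⟨C.el hw, hL', rfl⟩ hg, by
        rw [mul_smul, ← eltW_app (hok hw) _ (norm_axis g none)]⟩
    simp only [List.mem_cons, List.not_mem_nil, or_false] at hi
    rcases hi with rfl | rfl | rfl
    · exact key hX (Subgroup.subset_closure (by simp [x]))
    · exact key hS (Subgroup.subset_closure (by simp [s]))
    · exact key ht (Subgroup.subset_closure (by simp [t]))
  haveI : Finite L0 := inferInstance
  have h1 : Nat.card (MulAction.orbit L0 (eightE none)) ≥ D.N := by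
    have hsub : (D.tree.keys.toFinset : Set ℕ) ⊆
        pk '' MulAction.orbit L0 (eightE none) := by
      intro n hn
      obtain ⟨g, hg, he⟩ := horb n (List.mem_toFinset.mp hn)
      exact ⟨_, ⟨⟨g, hg⟩, rfl⟩, he⟩
    have h := Set.ncard_le_ncard hsub (Set.Finite.image _ (Set.finite_range _))
    rw [Set.ncard_coe_finset, List.toFinset_card_of_nodup (SporStruct.OrbitTree.incList_nodup hinc), hN]
      at h
    rw [Nat.card_coe_set_eq]
    exact h.trans (Set.ncard_image_le (Set.finite_range _))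
  have h2 : Nat.card K ≤ Nat.card (MulAction.stabilizer L0 (eightE none)) := by
    haveI : Finite (MulAction.stabilizer L0 (eightE none)) := inferInstance
    have hfix : ∀ g : K, (g : Equiv.Perm GolayPt) none = none := hnone
    refine Nat.card_le_card_of_injective (fun g : K => ⟨⟨_, hKf g⟩, ?_⟩) ?_
    · show permHom _ • eightE none = eightE none
      rw [permHom_eightE]; exact congrArg eightE (hfix g)
    · intro a b hab
      have := permHom_injective (congrArg (fun q => ((q : L0) : Co0)) (congrArg Subtype.val hab))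
      exact Subtype.ext (congrArg (fun q : M24 => (q : Equiv.Perm GolayPt)) this)
  have h3 : Nat.card L0 = Nat.card L := Subgroup.card_map_of_injective C.H.subtype_injective
  have h4 : D.N * Nat.card K ≤ Nat.card L0 := by
    rw [← (MulAction.stabilizer L0 (eightE none)).index_mul_card, MulAction.index_stabilizer,
      ← Nat.card_coe_set_eq]
    exact Nat.mul_le_mul h1 h2
  exact Subgroup.eq_top_of_card_eq _ (le_antisymm (Subgroup.card_le_card_group _) (by omega))

theorem rels_hold (hR : D.okRel = true) {T : Tri C.H} (hx : (T.x : Co0) = eltW D.X)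
    (hs : (T.s : Co0) = eltW D.S) (ht : (T.t : Co0) = eltW D.t)
    (hwX : okW D.X = true) (hwS : okW D.S = true) (hwt : okW D.t = true) :
    ∀ w ∈ D.rels, val3 T.x T.s T.t w = 1 := by
  intro w hw
  simp only [Cert.okRel, List.all_eq_true] at hR
  refine Subtype.ext ?_
  rw [C.val3_elt hx hs ht, eltW_eq (okW_valW hwX hwS hwt _) rfl (hR w hw)]
  rfl

/-- The table as a statement. -/
theorem table_spec (hG : D.okTab = true) {T : Tri C.H} (hTp : T.p = D.p)
    (hx : (T.x : Co0) = eltW D.X) (hs : (T.s : Co0) = eltW D.S) (ht : (T.t : Co0) = eltW D.t)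
    (hU : ∀ u ∈ T.U, ∃ j < D.U.length, (u : Co0) = eltW (D.U.getD j []))
    (hcs : ∀ c ∈ D.cs, D.fixW c = true) (has : ∀ a ∈ D.as, Golay.inM24 a = true)
    (hT : D.okTri = true) (f : MulAut C.H)
    (hfx : D.noOuter = true ∨ (okW D.o = true ∧ okW D.oi = true ∧
      ((f T.x : C.H) : Co0) = eltW (D.o ++ D.X ++ D.oi) ∧
      ((f T.t : C.H) : Co0) = eltW (D.o ++ D.t ++ D.oi) ∧ f T.s = T.s)) :
    ∀ k < T.p, k ≠ 0 → ∀ u ∈ T.U, (∃ w ∈ D.rels, val3 (T.x ^ k) T.s (T.t * u) w ≠ 1) ∨
      ∃ c : C.H, c * T.s = T.s * c ∧ ((c * T.x = T.x ^ k * c ∧ c * T.t = T.t * u * c) ∨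
        (D.noOuter = false ∧ f T.s = T.s ∧ c * f T.x = T.x ^ k * c ∧
          c * f T.t = T.t * u * c)) := by
  intro k hk hk0 u hu
  rw [hTp] at hk
  simp only [Cert.okTri, Bool.and_eq_true, List.all_eq_true, List.mem_range] at hT
  obtain ⟨⟨⟨⟨⟨⟨⟨⟨⟨⟨⟨⟨hX, hS⟩, htw⟩, -⟩, -⟩, hpow⟩, -⟩, -⟩, -⟩, -⟩, -⟩, -⟩, -⟩ := hT
  have hxM : Golay.inM24 D.x = true := by
    have := okW_of_fixW hX; simpa [okW, Cert.X, Atom.ok] using this
  have hsM : Golay.inM24 D.s = true := by
    have := okW_of_fixW hS; simpa [okW, Cert.S, Atom.ok] using this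
  obtain ⟨j, hj, hju⟩ := hU u hu
  have hUok : ∀ w ∈ D.U, okW w = true := by
    intro w hw
    obtain ⟨c, hc', hw'⟩ := List.mem_flatMap.mp hw
    obtain ⟨a, ha, rfl⟩ := List.mem_map.mp hw'
    exact okW_append.mpr ⟨okW_of_fixW (hcs c hc'), by simpa [okW, Atom.ok] using has a ha⟩
  have huok := hUok _ (getD_mem_of_lt (d := []) hj)
  simp only [Cert.okTab, List.all_eq_true, List.mem_range, Bool.or_eq_true, Nat.beq_eq] at hG
  have he := ((hG k hk).resolve_left hk0) j hj
  have hflag : D.noOuter = true → ((D.tab.getD (k - 1) []).getD j (0, 0, 0)).1 < 2 := by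
    intro h
    simp only [Cert.noOuter, List.all_eq_true, Nat.blt_eq] at h
    rcases lt_or_ge (k - 1) D.tab.length with hl | hl
    · rcases lt_or_ge j (D.tab.getD (k - 1) []).length with hl' | hl'
      · exact h _ (getD_mem_of_lt hl) _ (getD_mem_of_lt hl')
      · rw [List.getD_eq_default _ _ hl']; exact Nat.zero_lt_two
    · rw [List.getD_eq_default (l := D.tab) _ hl]; exact Nat.zero_lt_two
  generalize (D.tab.getD (k - 1) []).getD j (0, 0, 0) = e at he hflag
  have hxk : ((T.x ^ k : C.H) : Co0) = eltW [Atom.perm (cpow D.x k)] := by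
    rw [SubgroupClass.coe_pow, eltW_perm, permElt_pow hxM (hpow k (by omega)), hx]
    exact congrArg (· ^ k) (eltW_perm D.x)
  have htu : ((T.t * u : C.H) : Co0) = eltW (D.t ++ D.U.getD j []) := by
    rw [Subgroup.coe_mul, eltW_append, ht, hju]
  have okxk : okW [Atom.perm (cpow D.x k)] = true := by simpa [okW, Atom.ok] using hpow k (by omega)
  have oktu : okW (D.t ++ D.U.getD j []) = true := okW_append.mpr ⟨okW_of_fixW htw, huok⟩
  unfold Cert.entryOk at he
  simp only at he
  cases h0 : Nat.beq e.1 0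
  · simp only [h0, cond_false, Bool.and_eq_true, Nat.blt_eq] at he
    obtain ⟨hc', ⟨hcf, hcs'⟩, he⟩ := he
    set c := D.U.getD e.2.1 [] with hcdef
    have hcok : okW c = true := okW_of_fixW hcf
    right
    refine ⟨C.el hcf, Subtype.ext ?_, ?_⟩
    · have h := eltW_eq (okW_append.mpr ⟨hcok, okW_of_fixW hS⟩)
        (okW_append.mpr ⟨okW_of_fixW hS, hcok⟩) hcs'
      rw [eltW_append, eltW_append, ← hs] at h
      exact h
    cases h1 : Nat.beq e.1 1
    · right
      have hno : D.noOuter = false := by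
        cases hno : D.noOuter
        · rfl
        · exfalso
          have := hflag hno
          rw [Bool.eq_false_iff, ne_eq, Nat.beq_eq] at h0 h1
          omega
      rcases hfx with h | ⟨hoo, hoi, hfX, hfT, hfS⟩
      · rw [hno] at h; exact absurd h Bool.false_ne_true
      simp only [h1, cond_false, Bool.and_eq_true] at he
      obtain ⟨e1, e2⟩ := he
      have g1 := eltW_eq (okW_append.mpr ⟨hcok, okW_append.mpr
        ⟨okW_append.mpr ⟨hoo, okW_of_fixW hX⟩, hoi⟩⟩) (okW_append.mpr ⟨okxk, hcok⟩) e1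
      have g2 := eltW_eq (okW_append.mpr ⟨hcok, okW_append.mpr
        ⟨okW_append.mpr ⟨hoo, okW_of_fixW htw⟩, hoi⟩⟩) (okW_append.mpr ⟨oktu, hcok⟩) e2
      rw [eltW_append, ← hfX, eltW_append, ← hxk] at g1
      rw [eltW_append c, ← hfT, eltW_append (D.t ++ D.U.getD j []), ← htu] at g2
      exact ⟨hno, hfS, Subtype.ext g1, Subtype.ext g2⟩
    · left
      simp only [h1, cond_true, Bool.and_eq_true] at he
      obtain ⟨e1, e2⟩ := he
      have g1 := eltW_eq (okW_append.mpr ⟨hcok, okW_of_fixW hX⟩) (okW_append.mpr ⟨okxk, hcok⟩) e1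
      have g2 := eltW_eq (okW_append.mpr ⟨hcok, okW_of_fixW htw⟩) (okW_append.mpr ⟨oktu, hcok⟩) e2
      rw [eltW_append, eltW_append, ← hx, ← hxk] at g1
      rw [eltW_append c, eltW_append (D.t ++ D.U.getD j []), ← ht, ← htu] at g2
      exact ⟨Subtype.ext g1, Subtype.ext g2⟩
  · simp only [h0, cond_true, Bool.and_eq_true, Nat.blt_eq, Bool.not_eq_true'] at he
    obtain ⟨⟨hr, hax⟩, hne⟩ := he
    left
    refine ⟨_, getD_mem_of_lt (d := []) hr, fun h => ?_⟩
    have h' := congrArg (fun q : C.H => pk ((q : Co0) • eightE (Golay.pt e.2.2))) h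
    simp only [C.val3_elt hxk hs htu, OneMemClass.coe_one, one_smul] at h'
    rw [eltW_app (okW_valW okxk (okW_of_fixW hS) oktu _) (eightE _) (sqNorm_eightE _).le, pk_eightE,
      Golay.idx_pt hax] at h'
    rw [h', Nat.beq_refl] at hne
    exact Bool.false_ne_true hne.symm

/-- Trivial outer automorphism group. -/
theorem card_out_one (hG : D.okGen = true) (hC : D.okCent = true) (hT : D.okTri = true)
    (hR : D.okRel = true) (hTab : D.okTab = true) (hno : D.noOuter = true)
    (hK : ∀ g, g ∈ K ↔ D.spec.Holds g) (hnone : ∀ g : K, (g : Equiv.Perm GolayPt) none = none)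
    (hp : D.p.Prime) (hsq : ¬ D.p ^ 2 ∣ Nat.card C.H)
    (hc : (Computation.permRep 24 5 (by decide)).checkClosure D.gens steps ch = true)
    (hcardK : Nat.card K = (Computation.permRep 24 5 (by decide)).order ch)
    (hcard : Nat.card C.H ≤ D.N * Nat.card K) :
    Nat.card (Out C.H) = 1 := by
  obtain ⟨T, hTp, hx, hs, ht, hU, -⟩ := C.exists_tri hG hC hT hK hnone hp hsq hc hcardK hcard
  have hw : okW D.X = true ∧ okW D.S = true ∧ okW D.t = true := by
    simp only [Cert.okTri, Bool.and_eq_true] at hT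
    obtain ⟨⟨⟨⟨⟨⟨⟨⟨⟨⟨⟨⟨h1, h2⟩, h3⟩, -⟩, -⟩, -⟩, -⟩, -⟩, -⟩, -⟩, -⟩, -⟩, -⟩ := hT
    exact ⟨okW_of_fixW h1, okW_of_fixW h2, okW_of_fixW h3⟩
  refine T.card_out_one D.rels (C.rels_hold hR hx hs ht hw.1 hw.2.1 hw.2.2) fun k hk hk0 u hu => ?_
  rcases C.table_spec hTab hTp hx hs ht hU (Cert.cs_ok hC) (Cert.as_ok hC) hT 1 (Or.inl hno) k hk hk0 u hu with h | ⟨c, h1, h | h⟩
  · exact Or.inl h
  · exact Or.inr ⟨c, h1, h⟩
  · rw [hno] at h; exact absurd h.1.symm Bool.false_ne_true

theorem enc_comb (g : Co0) (c : ℤ × ℤ) {y : leechLattice} (hy64 : sqNorm (vec y) ≤ 64)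
    (h : combOk c D.V D.T (pk y) = true) (hg : g ∈ C.H) : g • y = y := by
  have hy : y = c.1 • C.v + c.2 • C.u := by
    apply Subtype.ext
    funext p
    have := of_decide_eq_true (List.all_eq_true.mp h (Golay.idx p) (List.mem_range.mpr (Golay.idx_lt p)))
    rw [← C.encv, ← C.encu, getW_pk_idx hy64, getW_pk_idx C.nv, getW_pk_idx C.nu] at this
    simp [vec] at this ⊢
    linarith
  rw [hy, smul_add', smul_zsmul', smul_zsmul', show g • C.v = C.v from hg.1,
    show g • C.u = C.u from hg.2]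

/-- Outer automorphism group of order two. -/
theorem card_out_two (hG : D.okGen = true) (hC : D.okCent = true) (hT : D.okTri = true)
    (hR : D.okRel = true) (hTab : D.okTab = true) (hO : D.okOuter = true)
    (hK : ∀ g, g ∈ K ↔ D.spec.Holds g) (hnone : ∀ g : K, (g : Equiv.Perm GolayPt) none = none)
    (hp : D.p.Prime) (hsq : ¬ D.p ^ 2 ∣ Nat.card C.H)
    (hc : (Computation.permRep 24 5 (by decide)).checkClosure D.gens steps ch = true)
    (hcardK : Nat.card K = (Computation.permRep 24 5 (by decide)).order ch)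
    (hcard : Nat.card C.H ≤ D.N * Nat.card K) :
    Nat.card (Out C.H) = 2 := by
  obtain ⟨T, hTp, hx, hs, ht, hU, -⟩ := C.exists_tri hG hC hT hK hnone hp hsq hc hcardK hcard
  have hw : okW D.X = true ∧ okW D.S = true ∧ okW D.t = true := by
    simp only [Cert.okTri, Bool.and_eq_true] at hT
    obtain ⟨⟨⟨⟨⟨⟨⟨⟨⟨⟨⟨⟨h1, h2⟩, h3⟩, -⟩, -⟩, -⟩, -⟩, -⟩, -⟩, -⟩, -⟩, -⟩, -⟩ := hT
    exact ⟨okW_of_fixW h1, okW_of_fixW h2, okW_of_fixW h3⟩
  obtain ⟨hwX, hwS, hwt⟩ := hw
  simp only [Cert.okOuter, Bool.and_eq_true, List.all_eq_true, Bool.not_eq_true'] at hO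
  obtain ⟨⟨⟨⟨⟨⟨⟨⟨⟨⟨⟨hoo, hoi⟩, hinv⟩, hcV⟩, hcT⟩, hoS⟩, hwM⟩, hoX⟩, hfw⟩, hsw⟩, haw⟩, hne⟩ := hO
  set o := eltW D.o with ho
  have hoi' : eltW D.oi = o⁻¹ := by
    have h := eltW_eq (okW_append.mpr ⟨hoo, hoi⟩) (show okW [] = true from rfl) hinv
    rw [eltW_append] at h
    exact eq_inv_of_mul_eq_one_right h
  set φ : MulAut Co0 := MulAut.conj o with hφ
  have hmap : C.H.map φ.toMonoidHom = C.H := by
    haveI : Finite C.H := inferInstance
    refine Subgroup.eq_of_le_of_card_ge ?_ (le_of_eq (Subgroup.card_map_of_injective φ.injective).symm)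
    rintro _ ⟨g, hg, rfl⟩
    have hv : g • o⁻¹ • C.v = o⁻¹ • C.v := C.enc_comb g D.coefV (by rw [norm_smul']; exact C.nv) (by
      rw [← hoi', eltW_app hoi _ C.nv, C.encv]; exact hcV) hg
    have hu : g • o⁻¹ • C.u = o⁻¹ • C.u := C.enc_comb g D.coefT (by rw [norm_smul']; exact C.nu) (by
      rw [← hoi', eltW_app hoi _ C.nu, C.encu]; exact hcT) hg
    refine ⟨?_, ?_⟩
    · show (o * g * o⁻¹) • C.v = C.v
      rw [mul_smul, mul_smul, hv, smul_inv_smul]
    · show (o * g * o⁻¹) • C.u = C.u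
      rw [mul_smul, mul_smul, hu, smul_inv_smul]
  set f : MulAut C.H := (Subgroup.equivMapOfInjective C.H φ.toMonoidHom φ.injective).trans
    (MulEquiv.subgroupCongr hmap) with hf
  have hfv : ∀ y : C.H, ((f y : C.H) : Co0) = eltW D.o * y * eltW D.oi := fun y => by
    rw [hoi']; rfl
  have hfX : ((f T.x : C.H) : Co0) = eltW (D.o ++ D.X ++ D.oi) := by
    rw [hfv, eltW_append, eltW_append, hx]
  have hfT : ((f T.t : C.H) : Co0) = eltW (D.o ++ D.t ++ D.oi) := by
    rw [hfv, eltW_append, eltW_append, ht]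
  have hfS : f T.s = T.s := by
    refine Subtype.ext ?_
    have h := eltW_eq (okW_append.mpr ⟨hoo, hwS⟩) (okW_append.mpr ⟨hwS, hoo⟩) hoS
    rw [eltW_append, eltW_append, ← hs] at h
    rw [hfv, hoi', h, mul_inv_cancel_right]
  have hxM : Golay.inM24 D.x = true := by simpa [okW, Cert.X, Atom.ok] using hwX
  have hout : f ∉ Inn C.H := by
    rintro ⟨c, hc⟩
    have hval : ∀ y : C.H, (c : Co0) * y = (f y : Co0) * c := fun y => by
      rw [← hc]
      show (c : Co0) * y = ((c * y * c⁻¹ : C.H) : Co0) * c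
      simp
    have hXw : ((f T.x : C.H) : Co0) = permElt (cpow D.x D.w) := by
      rw [hfX, eltW_eq (okW_append.mpr ⟨okW_append.mpr ⟨hoo, hwX⟩, hoi⟩)
        (by simpa [okW, Atom.ok] using hwM) hoX, eltW_perm]
    have hcx := hval T.x
    rw [hXw, hx, show eltW D.X = permElt D.x from eltW_perm D.x] at hcx
    have hO : (c : Co0) • eightE none = eightE none := by
      obtain ⟨hn, hd⟩ := C.image_conds c.2
      have hfix : permElt (cpow D.x D.w) • ((c : Co0) • eightE none) = (c : Co0) • eightE none := by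
        rw [← mul_smul, ← hcx, mul_smul]
        refine congrArg ((c : Co0) • ·) ?_
        rw [← eltW_perm]
        refine pk_injective (norm_axis _ none) (sqNorm_eightE none).le ?_
        rw [eltW_app (show okW [Atom.perm D.x] = true by simpa [okW, Atom.ok] using hxM) (eightE none) (sqNorm_eightE none).le, enc_none]
        simp only [Cert.okTri, Bool.and_eq_true] at hT
        obtain ⟨⟨⟨⟨⟨⟨⟨⟨⟨⟨⟨⟨-, -⟩, -⟩, hxO⟩, -⟩, -⟩, -⟩, -⟩, -⟩, -⟩, -⟩, -⟩, -⟩ := hT
        exact Nat.eq_of_beq_eq_true hxO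
      have := fixed_mem hfw (permElt_fix hwM hfix) hn hd
      rw [List.mem_singleton] at this
      exact pk_injective (norm_axis _ none) (sqNorm_eightE none).le (this.trans enc_none.symm)
    have hm : ((c : Co0)⁻¹) * permElt (cpow D.x D.w) = permElt D.x * (c : Co0)⁻¹ := by
      rw [inv_mul_eq_iff_eq_mul, ← mul_assoc, hcx, mul_inv_cancel_right]
    obtain ⟨a, ha, h, e⟩ := C.of_fixes hsw hwM hxM (C.H.inv_mem c.2)
      (by rw [inv_smul_eq_iff]; exact hO.symm) hm
    have haM := haw a ha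
    have hca : (c : Co0) = eltW [Atom.perm a] := by
      rw [eltW_perm, permElt_eq haM, ← inv_inj, inv_inv]; exact e
    have hok : okW [Atom.perm a] = true := by simpa [okW, Atom.ok] using haM
    have h1 := hval T.s
    rw [hfS, hs, hca, ← eltW_append, ← eltW_append] at h1
    have h2 := hval T.t
    rw [hfT, ht, hca, ← eltW_append, ← eltW_append] at h2
    have hcon := hne a ha
    rw [Bool.and_eq_false_iff] at hcon
    have hsound : ∀ {u v : Word}, okW u = true → okW v = true → eltW u = eltW v → eqW u v = true := by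
      intro u v hu hv he
      refine List.all_eq_true.mpr fun i hi => ?_
      rw [← Golay.idx_pt (List.mem_range.mp hi), ← pk_eightE, ← eltW_app hu (eightE _) (sqNorm_eightE _).le,
        ← eltW_app hv (eightE _) (sqNorm_eightE _).le, he]
      exact Nat.beq_refl _
    rcases hcon with hcon | hcon
    · rw [hsound (okW_append.mpr ⟨hok, hwS⟩) (okW_append.mpr ⟨hwS, hok⟩) h1] at hcon
      exact Bool.false_ne_true hcon.symm
    · rw [hsound (okW_append.mpr ⟨hok, hwt⟩)
        (okW_append.mpr ⟨okW_append.mpr ⟨okW_append.mpr ⟨hoo, hwt⟩, hoi⟩, hok⟩) h2] at hcon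
      exact Bool.false_ne_true hcon.symm
  refine T.card_out_two D.rels (C.rels_hold hR hx hs ht hwX hwS hwt) f hout fun k hk hk0 u hu => ?_
  rcases C.table_spec hTab hTp hx hs ht hU (Cert.cs_ok hC) (Cert.as_ok hC) hT f (Or.inr ⟨hoo, hoi, hfX, hfT, hfS⟩) k hk hk0 u hu
    with h | ⟨c, h1, h | h⟩
  · exact Or.inl h
  · exact Or.inr ⟨c, h1, Or.inl h⟩
  · exact Or.inr ⟨c, h1, Or.inr h.2⟩

end Ctx

end Cfsg.Agent.Lib.ConwayOut
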