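import Cfsg.Agent.Lib.ConwayOut.Atoms

/-!
# Certified list of the short vectors fixed by a permutation

A lattice vector fixed by a permutation is constant on its cycles; a depth-first search over the values
on the cycles finds all the packed vectors of norm 64 with prescribed inner products.
-/

set_option autoImplicit false

namespace Cfsg.Agent.Lib.ConwayOut

open Cfsg Cfsg.Agent.Lib Cfsg.Agent.Lib.Leech
open Cfsg.Agent.Lib.Computation (getW packW forceNat forceNat_eq)

/-- The sum of the fields. -/
def sumP (f : ℕ → ℕ) : ℕ → ℕ := fun k => Nat.rec 0 (fun i acc => Nat.add (f i) acc) k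

theorem sumP_eq (f : ℕ → ℕ) : ∀ k, sumP f k = ∑ i ∈ Finset.range k, f i
  | 0 => rfl
  | k + 1 => by
    show f k + sumP f k = _
    rw [sumP_eq f k, Finset.sum_range_succ, Nat.add_comm]

/-- The inner product of two packed vectors. -/
def dotZ (a b : ℕ) : ℤ :=
  (sumP (fun i => Nat.mul (getW 5 a i) (getW 5 b i)) 24 : ℤ) + 6144 -
    16 * ((sumP (getW 5 a) 24 : ℤ) + (sumP (getW 5 b) 24 : ℤ))

theorem sum_pts (f : ℕ → ℤ) : ∑ i ∈ Finset.range 24, f i = ∑ p : GolayPt, f (Golay.idx p) := by
  refine (Finset.sum_nbij' Golay.idx Golay.pt ?_ ?_ ?_ ?_ ?_).symm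
  · intro p _; simpa using Golay.idx_lt p
  · intro i _; exact Finset.mem_univ _
  · exact fun p _ => Golay.pt_idx p
  · intro i hi; exact Golay.idx_pt (by simpa using hi)
  · intro p _; rfl

theorem getW_pk_idx {v : leechLattice} (hv : sqNorm (vec v) ≤ 64) (p : GolayPt) :
    (getW 5 (pk v) (Golay.idx p) : ℤ) = vec v p + 16 := by
  rw [getW_pk hv (Golay.idx_lt p), Golay.pt_idx]

theorem sumP_pk {v : leechLattice} (hv : sqNorm (vec v) ≤ 64) :
    (sumP (getW 5 (pk v)) 24 : ℤ) = ∑ p, vec v p + 384 := by
  rw [sumP_eq, Nat.cast_sum, sum_pts]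
  simp only [getW_pk_idx hv, Finset.sum_add_distrib, Finset.sum_const, Finset.card_univ,
    Golay.card_golayPt]
  norm_num

theorem dotZ_pk {v w : leechLattice} (hv : sqNorm (vec v) ≤ 64) (hw : sqNorm (vec w) ≤ 64) :
    dotZ (pk v) (pk w) = dotInt (vec v) (vec w) := by
  rw [dotZ, sumP_pk hv, sumP_pk hw, sumP_eq, Nat.cast_sum, sum_pts]
  simp only [Nat.mul_eq, Nat.cast_mul, getW_pk_idx hv, getW_pk_idx hw, add_mul, mul_add,
    Finset.sum_add_distrib, Finset.sum_const, Finset.card_univ, Golay.card_golayPt, ← Finset.mul_sum,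
    ← Finset.sum_mul, dotInt]
  norm_num
  ring

/-- The mask of the coordinates with a residue modulo 4. -/
def resMask (k n : ℕ) : ℕ :=
  packW 1 (fun i => bif Nat.beq (Nat.mod (getW 5 n i) 4) k then 1 else 0) 24

/-- Membership in the lattice of a vector whose coordinates have the parity `par`. -/
def inLat (par n : ℕ) : Bool :=
  bif Nat.beq par 0 then Golay.inCode (resMask 2 n) && Nat.beq (sumP (getW 5 n) 24 % 8) 0
  else Golay.inCode (resMask 1 n) && Nat.beq (sumP (getW 5 n) 24 % 8) 4

theorem inLat_pk {v : leechLattice} (hv : sqNorm (vec v) ≤ 64) {par : ℕ}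
    (hp : ∀ p, vec v p % 2 = par) (hpar : par = 0 ∨ par = 1) : inLat par (pk v) = true := by
  have hres : ∀ k < 4, Golay.setOfMask (resMask k (pk v)) = res (k : ℤ) (vec v) := by
    intro k hk
    ext p
    rw [Golay.mem_setOfMask, mem_res, ← bit_eq, bit, resMask,
      Computation.getW_packW (fun x _ => by cases Nat.beq (Nat.mod (getW 5 (pk v) x) 4) k <;> simp)
        (Golay.idx_lt p)]
    have h1 := getW_pk_idx hv p
    cases hb : Nat.beq (Nat.mod (getW 5 (pk v) (Golay.idx p)) 4) k
    · have : Nat.mod (getW 5 (pk v) (Golay.idx p)) 4 ≠ k := fun e => by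
        rw [e, Nat.beq_refl] at hb; exact Bool.false_ne_true hb.symm
      simp only [show ∀ a b : ℕ, Nat.mod a b = a % b from fun _ _ => rfl] at this
      simp only [cond_false]
      constructor
      · intro h; exact absurd (Nat.eq_of_beq_eq_true h) (by norm_num)
      · intro h; omega
    · have := Nat.eq_of_beq_eq_true hb
      simp only [show ∀ a b : ℕ, Nat.mod a b = a % b from fun _ _ => rfl] at this
      simp only [cond_true, Nat.beq_refl, true_iff]
      omega
  have hlt : ∀ k, resMask k (pk v) < 2 ^ 24 := fun k => by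
    have := Computation.packW_lt (w := 1) (k := 24)
      (f := fun i => bif Nat.beq (Nat.mod (getW 5 (pk v) i) 4) k then 1 else 0)
      (fun x _ => by cases Nat.beq (Nat.mod (getW 5 (pk v) x) 4) k <;> simp)
    simpa [resMask] using this
  have hcode : ∀ k : ℕ, k < 4 → IsCode (res (k : ℤ) (vec v)) → Golay.inCode (resMask k (pk v)) = true := by
    intro k hk h
    rw [IsCode, ← hres k hk, SporStruct.Masks.maskOfSet_mem_iff,
      SporStruct.Masks.maskOfSet_setOfMask (hlt k)] at h
    exact h
  have hsum := sumP_pk hv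
  have hpn := hp none
  rcases mem_leech_iff.mp v.2 with h | h
  · have h0 := h.1 none
    obtain rfl : par = 0 := by
      rcases hpar with e | e
      · exact e
      · subst e; simp only [vec, Nat.cast_one] at hpn; omega
    simp only [inLat, Nat.beq_refl, cond_true, Bool.and_eq_true, Nat.beq_eq]
    refine ⟨hcode 2 (by norm_num) (by rw [Nat.cast_ofNat]; exact h.2.1), ?_⟩
    have h2 := h.2.2
    simp only [vec] at hsum
    omega
  · have h0 := h.1 none
    obtain rfl : par = 1 := by
      rcases hpar with e | e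
      · subst e; simp only [vec, Nat.cast_zero] at hpn; omega
      · exact e
    simp only [inLat, show Nat.beq 1 0 = false from rfl, cond_false, Bool.and_eq_true, Nat.beq_eq]
    refine ⟨hcode 1 (by norm_num) (by rw [Nat.cast_one]; exact h.2.1), ?_⟩
    have h2 := h.2.2
    simp only [vec] at hsum
    omega

/-- The fields of a parity with their squares. -/
def cands : ℕ → List (ℕ × ℕ)
  | 0 => [(16, 0), (14, 4), (18, 4), (12, 16), (20, 16), (10, 36), (22, 36), (8, 64), (24, 64)]
  | _ => [(15, 1), (17, 1), (13, 9), (19, 9), (11, 25), (21, 25), (9, 49), (23, 49)]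

/-- Cycle data: representatives, weights, and for every index its cycle and exponent. -/
structure Cls where
  reps : List ℕ
  ws : List ℕ
  lab : ℕ
  exp : ℕ

/-- The well-formedness of cycle data. -/
def Cls.ok (C : Cls) (c : ℕ) : Bool :=
  C.reps.all (Nat.blt · 24) && Nat.beq C.ws.length C.reps.length &&
    ((List.range 24).all fun i =>
      Nat.blt (getW 5 C.lab i) C.reps.length &&
        Nat.beq (OutTrivial.powImg c (getW 5 C.exp i) (C.reps.getD (getW 5 C.lab i) 0)) i) &&
    (List.range C.reps.length).all fun k =>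
      Nat.beq (C.ws.getD k 0) ((List.range 24).countP fun i => Nat.beq (getW 5 C.lab i) k)

/-- The last test. -/
def Cls.leaf (C : Cls) (par : ℕ) (conds : List (ℕ × ℤ)) (Y : List ℕ) (a : ℕ) : Bool :=
  forceNat (packW 5 (fun i => getW 5 a (getW 5 C.lab i)) 24) fun y =>
    !((conds.all fun e => decide (dotZ e.1 y = e.2)) && inLat par y) || Y.any (Nat.beq y)

/-- The search: `a` packs the values chosen for the first `k` cycles, `b` is what is left of the norm. -/
def dfs (leaf : ℕ → Bool) (par : ℕ) : List ℕ → ℕ → ℕ → ℕ → Bool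
  | [], _, a, b => !Nat.beq b 0 || leaf a
  | w :: ws, k, a, b => (cands par).all fun v =>
      !Nat.ble (Nat.mul w v.2) b ||
        forceNat (Nat.sub b (Nat.mul w v.2)) fun b' =>
          forceNat (Nat.add a (Nat.shiftLeft v.1 (Nat.mul 5 k))) fun a' =>
            dfs leaf par ws (k + 1) a' b'

/-- The search as one test. -/
def fixedOk (C : Cls) (c : ℕ) (conds : List (ℕ × ℤ)) (Y : List ℕ) : Bool :=
  Golay.okCode c && C.ok c && dfs (C.leaf 0 conds Y) 0 C.ws 0 0 64 &&
    dfs (C.leaf 1 conds Y) 1 C.ws 0 0 64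

theorem dfs_spec {leaf : ℕ → Bool} {par : ℕ} {A S : ℕ → ℕ} :
    ∀ {ws : List ℕ} {k a b : ℕ}, dfs leaf par ws k a b = true → a = packW 5 A k →
      (∀ j < ws.length, (A (k + j), S (k + j)) ∈ cands par) →
      b = ∑ j ∈ Finset.range ws.length, ws.getD j 0 * S (k + j) →
      leaf (packW 5 A (k + ws.length)) = true := by
  intro ws
  induction ws with
  | nil =>
    intro k a b h ha _ hb
    simp only [List.length_nil, Finset.range_zero, Finset.sum_empty] at hb
    subst hb ha
    simpa [dfs] using h
  | cons w ws ih =>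
    intro k a b h ha hmem hb
    simp only [List.length_cons, Finset.sum_range_succ', List.getD_cons_succ, List.getD_cons_zero,
      Nat.add_zero] at hb
    have hk : (A k, S k) ∈ cands par := by simpa using hmem 0 (by simp)
    have h' := List.all_eq_true.mp h _ hk
    simp only [Bool.or_eq_true, Bool.not_eq_true', forceNat_eq] at h'
    rcases h' with hn | h'
    · rw [Bool.eq_false_iff, ne_eq, Nat.ble_eq, Nat.mul_eq] at hn
      omega
    · have e : k + (w :: ws).length = k + 1 + ws.length := by
        simp only [List.length_cons]; omega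
      rw [e]
      refine ih h' ?_ ?_ ?_
      · rw [Computation.packW_succ, ha, Nat.add_comm]
        show packW 5 A k + A k <<< (5 * k) = _
        rw [Nat.shiftLeft_eq]
      · intro j hj
        have := hmem (j + 1) (by simpa using hj)
        rwa [show k + (j + 1) = k + 1 + j by omega] at this
      · simp only [Nat.sub_eq, Nat.mul_eq]
        rw [hb, Nat.add_sub_cancel]
        exact Finset.sum_congr rfl fun j _ => by rw [show k + (j + 1) = k + 1 + j by omega]

/-- The vectors fixed by the permutation are in the list. -/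
theorem fixed_mem {C : Cls} {c : ℕ} {conds : List (ℕ × ℤ)} {Y : List ℕ}
    (h : fixedOk C c conds Y = true) {y : leechLattice}
    (hfix : ∀ p, vec y (Golay.gperm c p) = vec y p) (hn : sqNorm (vec y) = 64)
    (hd : ∀ e ∈ conds, dotZ e.1 (pk y) = e.2) : pk y ∈ Y := by
  simp only [fixedOk, Bool.and_eq_true] at h
  obtain ⟨⟨⟨hc, hC⟩, h0⟩, h1⟩ := h
  simp only [Cls.ok, Bool.and_eq_true, List.all_eq_true, List.mem_range, Nat.blt_eq, Nat.beq_eq] at hC
  obtain ⟨⟨⟨hrep, hwl⟩, hlab⟩, hw⟩ := hC
  have hpow : ∀ (e : ℕ) (q : ℕ), q < 24 →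
      OutTrivial.powImg c e q < 24 ∧ vec y (Golay.pt (OutTrivial.powImg c e q)) = vec y (Golay.pt q) := by
    intro e q hq
    induction e with
    | zero => exact ⟨hq, rfl⟩
    | succ e ih =>
      refine ⟨Golay.getW_lt hc ih.1, ?_⟩
      have := hfix (Golay.pt (OutTrivial.powImg c e q))
      rw [Golay.gperm_apply hc, Golay.imgCode, Golay.idx_pt ih.1] at this
      exact this.trans ih.2
  have hb : ∀ p, -8 ≤ vec y p ∧ vec y p ≤ 8 := coord_bound hn.le
  set A : ℕ → ℕ := fun k => (vec y (Golay.pt (C.reps.getD k 0)) + 16).toNat with hA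
  set S : ℕ → ℕ := fun k => (vec y (Golay.pt (C.reps.getD k 0)) ^ 2).toNat with hS
  have hA32 : ∀ k, A k < 32 := fun k => by
    have := hb (Golay.pt (C.reps.getD k 0))
    simp only [hA]; omega
  have hval : ∀ i < 24, vec y (Golay.pt (C.reps.getD (getW 5 C.lab i) 0)) = vec y (Golay.pt i) := by
    intro i hi
    obtain ⟨hk, hp⟩ := hlab i hi
    have hr : C.reps.getD (getW 5 C.lab i) 0 < 24 := by
      rw [List.getD_eq_getElem _ _ hk]; exact hrep _ (List.getElem_mem hk)
    have := (hpow (getW 5 C.exp i) _ hr).2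
    rw [hp] at this
    exact this.symm
  have hy : packW 5 (fun i => getW 5 (packW 5 A C.reps.length) (getW 5 C.lab i)) 24 = pk y := by
    refine (pk_eq hn.le fun i hi => ?_).symm
    rw [Computation.getW_packW (f := A) (fun x _ => hA32 x) (hlab i hi).1]
    simp only [hA]
    rw [hval i hi]
    have := hb (Golay.pt i)
    omega
  obtain ⟨par, hpar, hp⟩ : ∃ par : ℕ, (par = 0 ∨ par = 1) ∧ ∀ p, vec y p % 2 = par := by
    have hall : ∀ p, vec y p % 2 = vec y none % 2 := fun p => parity_of_mem y.2 p none
    rcases Int.emod_two_eq_zero_or_one (vec y none) with e | e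
    · exact ⟨0, Or.inl rfl, fun p => by rw [hall, e]; rfl⟩
    · exact ⟨1, Or.inr rfl, fun p => by rw [hall, e]; rfl⟩
  have hcand : ∀ j < C.ws.length, (A (0 + j), S (0 + j)) ∈ cands par := by
    intro j _
    rw [Nat.zero_add]
    have hpj := hp (Golay.pt (C.reps.getD j 0))
    obtain ⟨hl, hu⟩ := hb (Golay.pt (C.reps.getD j 0))
    simp only [hA, hS]
    generalize vec y (Golay.pt (C.reps.getD j 0)) = z at hpj hl hu ⊢
    rcases hpar with rfl | rfl <;> interval_cases z <;>
      first
      | (exfalso; revert hpj; norm_num; done)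
      | decide
  have hsum : (64 : ℕ) = ∑ j ∈ Finset.range C.ws.length, C.ws.getD j 0 * S (0 + j) := by
    have e2 : ∀ k ∈ Finset.range C.ws.length, ((C.ws.getD k 0 * S (0 + k) : ℕ) : ℤ) =
        ∑ i ∈ (Finset.range 24).filter (fun i => getW 5 C.lab i = k), vec y (Golay.pt i) ^ 2 := by
      intro k hk
      rw [Finset.mem_range, hwl] at hk
      have hcard : ((Finset.range 24).filter fun i => getW 5 C.lab i = k).card = C.ws.getD k 0 := by
        rw [hw k hk, List.countP_eq_length_filter,
          ← List.toFinset_card_of_nodup (List.Nodup.filter _ List.nodup_range)]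
        refine congrArg Finset.card ?_
        ext i
        simp only [List.mem_toFinset, List.mem_filter, List.mem_range, Nat.beq_eq, Finset.mem_filter,
          Finset.mem_range]
      rw [Finset.sum_congr rfl fun i hi => show vec y (Golay.pt i) ^ 2 =
          vec y (Golay.pt (C.reps.getD k 0)) ^ 2 by
          rw [Finset.mem_filter, Finset.mem_range] at hi
          rw [← hval i hi.1, hi.2],
        Finset.sum_const, nsmul_eq_mul, hcard, Nat.cast_mul, Nat.zero_add]
      refine congrArg (fun z : ℤ => ((C.ws.getD k 0 : ℕ) : ℤ) * z) ?_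
      simp only [hS]
      exact Int.toNat_of_nonneg (sq_nonneg _)
    have e3 : ((∑ j ∈ Finset.range C.ws.length, C.ws.getD j 0 * S (0 + j) : ℕ) : ℤ) = 64 := by
      rw [Nat.cast_sum, Finset.sum_congr rfl e2, Finset.sum_fiberwise_of_maps_to
        (fun i hi => by rw [Finset.mem_range, hwl]; exact (hlab i (Finset.mem_range.mp hi)).1),
        sum_pts]
      simp only [Golay.pt_idx]
      exact hn
    omega
  have hleaf : C.leaf par conds Y (packW 5 A C.reps.length) = true := by
    have hd' : dfs (C.leaf par conds Y) par C.ws 0 0 64 = true := by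
      rcases hpar with rfl | rfl
      exacts [h0, h1]
    have := dfs_spec hd' rfl hcand hsum
    rwa [Nat.zero_add, hwl] at this
  simp only [Cls.leaf, forceNat_eq, hy, Bool.or_eq_true, List.any_eq_true] at hleaf
  rcases hleaf with h | ⟨z, hz, he⟩
  · exfalso
    simp only [Bool.not_eq_true', Bool.and_eq_false_iff] at h
    rcases h with h | h
    · rw [List.all_eq_false] at h
      obtain ⟨e, he, hne⟩ := h
      exact hne (decide_eq_true (hd e he))
    · rw [inLat_pk hn.le hp hpar] at h; exact Bool.false_ne_true h.symm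
  · rw [Nat.eq_of_beq_eq_true he]; exact hz

end Cfsg.Agent.Lib.ConwayOut
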