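import Cfsg.Agent.Lib.ConwayOut.HSCert
import Cfsg.Agent.Lib.ConwayOut.Model
import Cfsg.Agent.Lib.Leech.McLHS

/-!
# The outer automorphism group of the Higman–Sims group
-/

set_option autoImplicit false

namespace Cfsg.Agent.Lib.ConwayOut.HS

open Cfsg Cfsg.Agent.Lib Cfsg.Agent.Lib.Leech

/-- The setting. -/
noncomputable def ctx : Ctx HSCert.data where
  v := Spor.leechV
  u := Spor.leechU'
  nv := by
    show sqNorm Spor.vecV ≤ 64
    decide +kernel
  nu := by
    show sqNorm Spor.vecU' ≤ 64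
    decide +kernel
  encv := by decide +kernel
  encu := by decide +kernel
  stab g hv hu hO := stab_M22 (u := Spor.leechU') (by decide +kernel) (fun p h1 h2 => by
    show Spor.vecU' p = 0
    simp [Spor.vecU', h1, h2]) rfl rfl g hv hu hO

/-- The identification with the defined group. -/
noncomputable def equiv : ctx.H ≃* Spor.HS where
  toFun g := ⟨((g : Co0) : Equiv.Perm leechLattice), ⟨⟨(g : Co0).2, g.2.1⟩, g.2.2⟩⟩
  invFun g := ⟨⟨(g : Equiv.Perm leechLattice), g.2.1.1⟩, ⟨g.2.1.2, g.2.2⟩⟩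
  left_inv _ := rfl
  right_inv _ := rfl
  map_mul' _ _ := rfl

theorem card_H : Nat.card ctx.H = 44352000 := by
  set w : leechLattice := -(Spor.leechV + Spor.leechU')
  have h : ctx.H = MulAction.stabilizer Co0 Spor.leechV ⊓ MulAction.stabilizer Co0 w := by
    ext g
    show g • Spor.leechV = Spor.leechV ∧ g • Spor.leechU' = Spor.leechU' ↔
      g • Spor.leechV = Spor.leechV ∧ g • w = w
    rw [show g • w = -(g • Spor.leechV + g • Spor.leechU') by rw [smul_neg', smul_add'], neg_inj]
    constructor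
    · rintro ⟨hv, hu⟩
      exact ⟨hv, by rw [hv, hu]⟩
    · rintro ⟨hv, hw⟩
      rw [hv] at hw
      exact ⟨hv, add_left_cancel hw⟩
  rw [h]
  refine card_pair48_stab ?_ ?_ ?_
  · show sqNorm Spor.vecV = 48
    decide +kernel
  · show sqNorm (-(Spor.vecV + Spor.vecU')) = 48
    decide +kernel
  · show dotInt Spor.vecV (-(Spor.vecV + Spor.vecU')) = -32
    decide +kernel

theorem card_out : Nat.card (Out ↥Spor.HS) = 2 := by
  rw [← card_out_congr equiv]
  refine Ctx.card_out_two ctx (K := Spor.M22) (steps := HSCert.m_steps) (ch := HSCert.m_chain)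
    HSCert.okGen HSCert.okCent HSCert.okTri HSCert.okRel HSCert.okTab HSCert.okOuter
    (mem_M22_iff rfl rfl) (fun g => g.2.1.2) (show Nat.Prime 11 by norm_num) ?_ HSCert.m_check
    (Golay.card_spor_M22.trans HSCert.order_eq.symm) ?_
  · show ¬ 11 ^ 2 ∣ _
    rw [card_H]; norm_num
  · show _ ≤ 100 * _
    rw [card_H, Golay.card_spor_M22]

end Cfsg.Agent.Lib.ConwayOut.HS
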