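import Cfsg.Agent.Lib.ConwayOut.McLCert
import Cfsg.Agent.Lib.ConwayOut.Model
import Cfsg.Agent.Lib.MathieuFusion.McL

/-!
# The outer automorphism group of the McLaughlin group
-/

set_option autoImplicit false

namespace Cfsg.Agent.Lib.ConwayOut.McL

open Cfsg Cfsg.Agent.Lib Cfsg.Agent.Lib.Leech

/-- The setting. -/
noncomputable def ctx : Ctx McLCert.data where
  v := Spor.leechV
  u := Spor.leechU
  nv := by
    show sqNorm Spor.vecV ≤ 64
    decide +kernel
  nu := by
    show sqNorm Spor.vecU ≤ 64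
    decide +kernel
  encv := by decide +kernel
  encu := by decide +kernel
  stab g hv hu hO := stab_M22 (u := Spor.leechU) (by decide +kernel) (fun p h1 h2 => by
    show Spor.vecU p = 0
    simp [Spor.vecU, h1, h2]) rfl rfl g hv hu hO

/-- The identification with the defined group. -/
noncomputable def equiv : ctx.H ≃* Spor.McL where
  toFun g := ⟨((g : Co0) : Equiv.Perm leechLattice), ⟨⟨(g : Co0).2, g.2.1⟩, g.2.2⟩⟩
  invFun g := ⟨⟨(g : Equiv.Perm leechLattice), g.2.1.1⟩, ⟨g.2.1.2, g.2.2⟩⟩
  left_inv _ := rfl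
  right_inv _ := rfl
  map_mul' _ _ := rfl

theorem card_H : Nat.card ctx.H = 898128000 := by
  exact MathieuFusion.McL.card_H

theorem card_out : Nat.card (Out ↥Spor.McL) = 2 := by
  rw [← card_out_congr equiv]
  refine Ctx.card_out_two ctx (K := Spor.M22) (steps := McLCert.m_steps) (ch := McLCert.m_chain)
    McLCert.okGen McLCert.okCent McLCert.okTri McLCert.okRel McLCert.okTab McLCert.okOuter
    (mem_M22_iff rfl rfl) (fun g => g.2.1.2) (show Nat.Prime 11 by norm_num) ?_ McLCert.m_check
    (Golay.card_spor_M22.trans McLCert.order_eq.symm) ?_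
  · show ¬ 11 ^ 2 ∣ _
    rw [card_H]; norm_num
  · show _ ≤ 2025 * _
    rw [card_H, Golay.card_spor_M22]

end Cfsg.Agent.Lib.ConwayOut.McL
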