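import Cfsg.Agent.Lib.ConwayOut.Engine
import Cfsg.Agent.Lib.LeechMod2.Frame

/-!
# Words in the lattice group modulo the centre, and intertwiners fixing an axis vector
-/

set_option autoImplicit false

namespace Cfsg.Agent.Lib.ConwayOut

open Cfsg Cfsg.Agent.Lib Cfsg.Agent.Lib.Leech Cfsg.Agent.Lib.OutTrivial
open Cfsg.Agent.Lib.Computation (getW packW)
open scoped Pointwise

/-- The word of the negation. -/
def negW : Word := [.sign 16777215]

/-- Equality up to sign. -/
def eqQ (u w : Word) : Bool := eqW u w || eqW u (w ++ negW)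

theorem okW_negW : okW negW = true := by decide +kernel

theorem eltW_sign {m : ℕ} (h : Golay.inCode m = true) :
    eltW [Atom.sign m] = Leech.flip (Golay.setOfMask m) (Golay.setOfMask_mem_supports h) := by
  simp [eltW, Atom.elt, h]

theorem flip_congr {c d : Finset GolayPt} (e : c = d) {hc : IsCode c} {hd : IsCode d} :
    Leech.flip c hc = Leech.flip d hd := by
  subst e; rfl

theorem setOfMask_full : Golay.setOfMask 16777215 = Finset.univ := by decide +kernel

theorem eltW_negW : eltW negW = negOne := by
  rw [negW, eltW_sign (by decide +kernel)]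
  exact flip_congr setOfMask_full

theorem bar_negOne : LeechMod2.Frame.bar negOne = 1 := LeechMod2.Frame.bar_eq_one.mpr negOne_mem_center

/-- The class of a word. -/
noncomputable def q (w : Word) : Spor.Co1 := LeechMod2.Frame.bar (eltW w)

theorem q_append (u w : Word) : q (u ++ w) = q u * q w := by rw [q, eltW_append, map_mul]; rfl

theorem q_nil : q [] = 1 := by simp [q, eltW]

theorem q_negW : q negW = 1 := by rw [q, eltW_negW, bar_negOne]

theorem q_eq {u w : Word} (hu : okW u = true) (hw : okW w = true) (h : eqQ u w = true) : q u = q w := by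
  rcases Bool.or_eq_true _ _ ▸ h with h | h
  · rw [q, q, eltW_eq hu hw h]
  · rw [q, eltW_eq hu (okW_append.mpr ⟨hw, okW_negW⟩) h]
    exact (q_append w negW).trans (by rw [q_negW, mul_one])

/-- A word moving an axis off its line is not trivial modulo the centre. -/
theorem q_ne_one {w : Word} (hw : okW w = true) {i : ℕ} (hi : i < 24)
    (h1 : Nat.beq (appW w (axP i)) (axP i) = false)
    (h2 : Nat.beq (appW w (axP i)) (appW negW (axP i)) = false) : q w ≠ 1 := by
  intro h
  rcases center_co0_eq (LeechMod2.Frame.bar_eq_one.mp h) with e | e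
  · have := eltW_app hw (eightE (Golay.pt i)) (sqNorm_eightE _).le
    rw [e, one_smul, pk_eightE, Golay.idx_pt hi] at this
    rw [← this, Nat.beq_refl] at h1
    exact Bool.false_ne_true h1.symm
  · have := eltW_app hw (eightE (Golay.pt i)) (sqNorm_eightE _).le
    rw [e, ← eltW_negW, eltW_app okW_negW _ (sqNorm_eightE _).le, pk_eightE, Golay.idx_pt hi] at this
    rw [← this, Nat.beq_refl] at h2
    exact Bool.false_ne_true h2.symm

theorem negOne_mul_self : negOne * negOne = 1 :=
  co0_ext fun i => by rw [mul_smul, negOne_smul, negOne_smul, neg_neg, one_smul]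

/-- An intertwiner modulo the centre of two elements of odd order is an intertwiner. -/
theorem lift_comm {g a b : Co0} {n : ℕ} (hn : Odd n) (ha : a ^ n = 1) (hb : b ^ n = 1)
    (h : LeechMod2.Frame.bar g * LeechMod2.Frame.bar a = LeechMod2.Frame.bar b * LeechMod2.Frame.bar g) :
    g * a = b * g := by
  have hz : b⁻¹ * (g * a * g⁻¹) ∈ Subgroup.center Co0 := by
    rw [← LeechMod2.Frame.bar_eq_one]
    simp only [map_mul, map_inv, h]
    group
  rcases center_co0_eq hz with e | e
  · rwa [inv_mul_eq_one, eq_comm, mul_inv_eq_iff_eq_mul] at e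
  · exfalso
    apply negOne_ne_one
    rw [inv_mul_eq_iff_eq_mul] at e
    have h1 := congrArg (· ^ n) e
    simp only [conj_pow, ha, mul_one, mul_inv_cancel] at h1
    have hc : Commute b negOne := Subgroup.mem_center_iff.mp negOne_mem_center b
    rw [hc.mul_pow, hb, one_mul] at h1
    obtain ⟨k, rfl⟩ := hn
    rw [pow_succ, pow_mul, pow_two, negOne_mul_self, one_pow, one_mul] at h1
    exact h1.symm

/-- An element fixing the axis vector is a sign change after a permutation fixing the extra point. -/
theorem exists_flip_perm {g : Co0} (hO : g • eightE none = eightE none) :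
    ∃ π : M24, (π : Equiv.Perm GolayPt) none = none ∧ ∃ c, ∃ hc : IsCode c, none ∉ c ∧
      g = Leech.flip c hc * permHom π := by
  obtain ⟨σ, hσ, c, hc, rfl⟩ := exists_monomial (axis_of_one (i := none) (j := none) (Or.inl hO))
  have hσn : σ none = none := by
    rw [monomial_apply_eightE] at hO
    split_ifs at hO
    · exact eightE_inj (Or.inr (by rw [← hO, neg_neg]))
    · exact eightE_inj (Or.inl hO)
  refine ⟨⟨σ, hσ⟩, hσn, c, hc, fun hmem => ?_, co0_ext fun i => ?_⟩
  · rw [monomial_apply_eightE, hσn, if_pos hmem] at hO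
    have := congrFun (congrArg vec hO) none
    simp [eightE, vec] at this
  · rw [mul_smul, permHom_eightE]
    show _ = monomial 1 _ c hc • eightE (σ i)
    rw [monomial_apply_eightE, monomial_apply_eightE, Equiv.Perm.one_apply]

theorem flip_eightE {c : Finset GolayPt} (hc : IsCode c) (i : GolayPt) :
    Leech.flip c hc • eightE i = if i ∈ c then -eightE i else eightE i := by
  show monomial 1 _ c hc • eightE i = _
  rw [monomial_apply_eightE, Equiv.Perm.one_apply]

theorem flip_mul_self {c : Finset GolayPt} (hc : IsCode c) : Leech.flip c hc * Leech.flip c hc = 1 := by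
  refine co0_ext fun i => ?_
  rw [mul_smul, flip_eightE, one_smul]
  split_ifs with hi
  · rw [smul_neg', flip_eightE, if_pos hi, neg_neg]
  · rw [flip_eightE, if_neg hi]

theorem eightE_ne_neg (i : GolayPt) : eightE i ≠ -eightE i := fun h => by
  have := congrFun (congrArg vec h) i
  simp [eightE, vec] at this

theorem holds_23 {π : M24} (h : (π : Equiv.Perm GolayPt) none = none) :
    (⟨[23], []⟩ : Spec).Holds π := by
  refine ⟨π.2, ?_, fun _ h => absurd h List.not_mem_nil⟩
  simp only [List.mem_singleton, forall_eq]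
  rw [show Golay.pt 23 = none from rfl, h]
  rfl

/-- The permutation part of an intertwiner. -/
theorem intertwine_part {c c' : ℕ} (hc : Golay.inM24 c = true) (hc' : Golay.inM24 c' = true)
    {π : M24} {d : Finset GolayPt} {hd : IsCode d}
    (h : Leech.flip d hd * permHom π * permElt c = permElt c' * (Leech.flip d hd * permHom π)) :
    (π : Equiv.Perm GolayPt) * Golay.gperm c = Golay.gperm c' * π ∧
      ∀ p, p ∈ d ↔ Golay.gperm c' p ∈ d := by
  set g := Leech.flip d hd * permHom π with hg
  set γ : M24 := ⟨Golay.gperm c, Golay.gperm_mem_M24 hc⟩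
  set γ' : M24 := ⟨Golay.gperm c', Golay.gperm_mem_M24 hc'⟩
  rw [show permElt c = (permHom γ)⁻¹ from permElt_eq hc,
    show permElt c' = (permHom γ')⁻¹ from permElt_eq hc', mul_inv_eq_iff_eq_mul, mul_assoc,
    eq_inv_mul_iff_mul_eq] at h
  have key : ∀ p, Golay.gperm c' ((π : Equiv.Perm GolayPt) p) = (π : Equiv.Perm GolayPt) (Golay.gperm c p) ∧
      ((π : Equiv.Perm GolayPt) p ∈ d ↔ (π : Equiv.Perm GolayPt) (Golay.gperm c p) ∈ d) := by
    intro p
    have h1 := congrArg (· • eightE p) h
    simp only [mul_smul, hg, permHom_eightE, flip_eightE] at h1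
    have hneg : permHom γ' • -eightE ((π : Equiv.Perm GolayPt) p) =
        -eightE (Golay.gperm c' ((π : Equiv.Perm GolayPt) p)) := by
      rw [smul_neg', permHom_eightE]
    by_cases hp : (π : Equiv.Perm GolayPt) p ∈ d <;>
      by_cases hq : (π : Equiv.Perm GolayPt) (Golay.gperm c p) ∈ d
    · rw [if_pos hp, hneg, if_pos (show _ ∈ d from hq), neg_inj] at h1
      exact ⟨eightE_inj (Or.inl h1), iff_of_true hp hq⟩
    · rw [if_pos hp, hneg, if_neg (show ¬ _ ∈ d from hq)] at h1
      have he := eightE_inj (Or.inr (by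
        show eightE (Golay.gperm c' ((π : Equiv.Perm GolayPt) p)) =
          -eightE ((π : Equiv.Perm GolayPt) (Golay.gperm c p))
        rw [← h1, neg_neg]))
      rw [he] at h1
      exact absurd h1.symm (eightE_ne_neg _)
    · rw [if_neg hp, permHom_eightE, if_pos (show _ ∈ d from hq)] at h1
      have he := eightE_inj (Or.inr h1)
      change Golay.gperm c' _ = _ at he
      change eightE (Golay.gperm c' _) = -eightE _ at h1
      rw [he] at h1
      exact absurd h1 (eightE_ne_neg _)
    · rw [if_neg hp, permHom_eightE, if_neg (show ¬ _ ∈ d from hq)] at h1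
      exact ⟨eightE_inj (Or.inl h1), iff_of_false hp hq⟩
  have hcomm : (π : Equiv.Perm GolayPt) * Golay.gperm c = Golay.gperm c' * π :=
    Equiv.ext fun p => (key p).1.symm
  refine ⟨hcomm, fun p => ?_⟩
  have h2 := (key ((π : Equiv.Perm GolayPt).symm p)).2
  rw [← (key _).1, Equiv.apply_symm_apply] at h2
  exact h2

/-- No intertwiner. -/
theorem no_intertwiner {c c' : ℕ} {ls : List Level} (hc : Golay.inM24 c = true)
    (hc' : Golay.inM24 c' = true) (hs : searchOk ⟨[23], []⟩ c c' [] ls = true) {g : Co0}
    (hO : g • eightE none = eightE none) (h : g * permElt c = permElt c' * g) : False := by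
  obtain ⟨π, hπ, d, hd, -, rfl⟩ := exists_flip_perm hO
  obtain ⟨a, ha, -⟩ := searchOk_spec hs (holds_23 hπ) (intertwine_part hc hc' h).1
  exact List.not_mem_nil ha

/-- The invariant words avoiding the extra point are in the list. -/
def signsOk (c : ℕ) (signs : List ℕ) : Bool :=
  (List.range 4096).all fun k =>
    (Golay.enc k).testBit 23 || !Nat.beq (Golay.permMask c (Golay.enc k)) (Golay.enc k) ||
      signs.any (Nat.beq (Golay.enc k))

/-- The centralizer of a permutation in the stabiliser of the axis vector. -/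
theorem centralizer_axis {c : ℕ} {allowed signs : List ℕ} {ls : List Level}
    (hc : Golay.inM24 c = true) (hs : searchOk ⟨[23], []⟩ c c allowed ls = true)
    (hsign : signsOk c signs = true) (hall : ∀ a ∈ allowed, Golay.inM24 a = true) {g : Co0} (hO : g • eightE none = eightE none)
    (h : g * permElt c = permElt c * g) :
    ∃ a ∈ allowed, ∃ m ∈ signs, g = eltW [Atom.perm a, Atom.sign m] := by
  obtain ⟨π, hπ, d, hd, hnone, e⟩ := exists_flip_perm (g := g⁻¹) (inv_smul_eq_iff.mpr hO.symm)
  have h' : g⁻¹ * permElt c = permElt c * g⁻¹ := by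
    rw [inv_mul_eq_iff_eq_mul, ← mul_assoc, h, mul_inv_cancel_right]
  rw [e] at h'
  obtain ⟨hcomm, hinv⟩ := intertwine_part hc hc h'
  obtain ⟨a, ha, hπa⟩ := searchOk_spec hs (holds_23 hπ) hcomm
  obtain ⟨k, hk, rfl⟩ := Golay.mem_supports_iff.mp hd
  have hok := Golay.okCode_of_inM24 hc
  have hmask : Golay.permMask c (Golay.enc k) = Golay.enc k := by
    have h1 : Golay.gperm c • Golay.setOfMask (Golay.enc k) = Golay.setOfMask (Golay.enc k) := by
      ext p
      rw [Finset.mem_smul_finset]
      constructor
      · rintro ⟨r, hr, rfl⟩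
        exact (hinv r).1 hr
      · intro hp
        refine ⟨(Golay.gperm c).symm p, ?_, Equiv.apply_symm_apply _ _⟩
        exact (hinv _).2 (by rw [Equiv.apply_symm_apply]; exact hp)
    rw [Golay.smul_setOfMask hok] at h1
    refine Golay.setOfMask_injOn ?_ (Golay.enc_lt hk) h1
    exact Golay.permMask_lt hok _
  simp only [signsOk, List.all_eq_true, List.mem_range, Bool.or_eq_true, Bool.not_eq_true',
    List.any_eq_true] at hsign
  rcases hsign k hk with (hb | hb) | ⟨m, hm, hme⟩
  · exact absurd (Golay.mem_setOfMask.mpr hb) hnone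
  · rw [hmask, Nat.beq_refl] at hb; exact absurd hb.symm Bool.false_ne_true
  · obtain rfl := Nat.eq_of_beq_eq_true hme
    have haM : Golay.inM24 a = true := hall a ha
    refine ⟨a, ha, _, hm, ?_⟩
    have hπ' : π = ⟨Golay.gperm a, Golay.gperm_mem_M24 haM⟩ := Subtype.ext hπa
    rw [← inv_inv g, e, mul_inv_rev, show [Atom.perm a, Atom.sign (Golay.enc k)] =
      [Atom.perm a] ++ [Atom.sign (Golay.enc k)] from rfl, eltW_append, eltW_perm, permElt_eq haM,
      eltW_sign (Golay.inCode_enc hk), hπ']
    congr 1
    exact inv_eq_of_mul_eq_one_left (flip_mul_self hd)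

end Cfsg.Agent.Lib.ConwayOut
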