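import Cfsg.Agent.Lib.ConwayOut.Engine

/-!
# Generation and centralizers when the orbit of the axis vector is too large to list

The triple generates as soon as it generates the stabiliser of the axis vector and moves it into an
orbit of that stabiliser so long that the index is below the prime of the first generator.
-/

set_option autoImplicit false

namespace Cfsg.Agent.Lib.ConwayOut

open Cfsg Cfsg.Agent.Lib Cfsg.Agent.Lib.Leech Cfsg.Agent.Lib.OutTrivial
open Cfsg.Agent.Lib.Computation (getW packW)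

/-- A simple group has no proper subgroup of index below a prime dividing its order. -/
theorem eq_top_of_index_lt {G : Type*} [Group G] [Finite G] [IsSimpleGroup G] {p : ℕ} (hp : p.Prime)
    (hpG : p ∣ Nat.card G) {L : Subgroup G} (hi : L.index < p) : L = ⊤ := by
  rcases (IsSimpleGroup.eq_bot_or_eq_top_of_normal L.normalCore inferInstance) with h | h
  · exfalso
    have hinj : Function.Injective (MulAction.toPermHom G (G ⧸ L)) := by
      rw [← MonoidHom.ker_eq_bot_iff, ← Subgroup.normalCore_eq_ker, h]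
    have hd := Subgroup.card_dvd_of_injective _ hinj
    rw [Nat.card_perm, ← Subgroup.index_eq_card] at hd
    have := (hp.dvd_factorial).1 (hpG.trans hd)
    omega
  · exact top_le_iff.mp (h ▸ L.normalCore_le)

/-- The certificate of a long suborbit. -/
structure Sub where
  y : ℕ
  yw : List (Fin 3)
  vals : List ℕ
  allowed : List ℕ
  levels : List Level

namespace Sub

variable (E : Sub)

/-- The mask of a value. -/
def mask (v : ℕ) : ℕ :=
  packW 1 (fun i => bif Nat.beq (getW 5 E.y i) v then 1 else 0) 24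

/-- The conditions: fixed extra point and fixed classes. -/
def spec : Spec := ⟨[23], E.vals.map E.mask⟩

/-- The test. -/
def ok (D : Cert) : Bool :=
  Nat.beq (appW (valW D.X D.S D.t E.yw) (axP 23)) E.y &&
    searchOk E.spec Golay.oneCode Golay.oneCode E.allowed E.levels

end Sub

namespace Cert

/-- The generators of the stabiliser of the axis vector. -/
def okGenK (D : Cert) : Bool :=
  Nat.beq D.gens.length D.gw.length &&
  D.spec.ok && (List.range D.gens.length).all fun i => D.spec.mem (D.gens.getD i 0) &&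
    eqW (valW D.X D.S D.t (D.gw.getD i [])) [.perm (D.gens.getD i 0)]

/-- The centralizers when the fixed vectors of the second generator form two classes. -/
def okCentTwo (D : Cert) (y f : ℕ) (lf : List Level) : Bool :=
  fixedOk D.cX D.x D.conds [axP 23] &&
  searchOk D.spec D.x D.x ((List.range D.p).map (cpow D.x)) D.lx &&
  fixedOk D.cS D.s D.conds [axP 23, y] &&
  searchOk D.spec D.s D.s D.as D.ls && D.as.all Golay.inM24 &&
  Nat.beq D.cs.length 1 && D.cs.all (fun c => List.isEmpty c) && D.fixW [] &&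
  Nat.beq (appW D.t (axP 23)) y && Golay.inM24 (cpow D.s f) &&
  eqW (D.S ++ D.t) (D.t ++ [.perm (cpow D.s f)]) && searchOk D.spec D.s (cpow D.s f) [] lf

end Cert

namespace Ctx

variable {D : Cert} (C : Ctx D) {K : Subgroup (Equiv.Perm GolayPt)}
  {steps : List (Computation.Step ℕ)} {ch : List (Computation.Level ℕ)}

/-- The centralizer of the second generator, two classes of fixed vectors. -/
theorem cent_s_mem_two {y f : ℕ} {lf : List Level} (hC : D.okCentTwo y f lf = true)
    (hT : D.okTri = true) {g : Co0} (hgH : g ∈ C.H) (hg : g * eltW D.S = eltW D.S * g) :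
    ∃ j < D.U.length, g = eltW (D.U.getD j []) := by
  simp only [Cert.okTri, Bool.and_eq_true, Nat.beq_eq] at hT
  obtain ⟨⟨⟨⟨⟨⟨⟨⟨⟨⟨⟨⟨-, hS⟩, ht⟩, -⟩, hsO⟩, -⟩, -⟩, -⟩, -⟩, -⟩, -⟩, -⟩, -⟩ := hT
  simp only [Cert.okCentTwo, Bool.and_eq_true, List.all_eq_true, Nat.beq_eq] at hC
  obtain ⟨⟨⟨⟨⟨⟨⟨⟨⟨⟨⟨-, -⟩, hfs⟩, hss⟩, has⟩, hlen⟩, hnil⟩, hone⟩, hty⟩, hfM⟩, hst⟩, hsf⟩ := hC
  have hcs : D.cs = [[]] := by
    match hD : D.cs, hlen with
    | [c], _ =>
      have := hnil c (by rw [hD]; simp)
      rw [List.isEmpty_iff] at this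
      rw [this]
  have hokS : okW D.S = true := okW_of_fixW hS
  have hokt : okW D.t = true := okW_of_fixW ht
  have hsM : Golay.inM24 D.s = true := by simpa [okW, Cert.S, Atom.ok] using hokS
  have hSe : eltW D.S = permElt D.s := eltW_perm D.s
  rw [hSe] at hg
  obtain ⟨hn, hd⟩ := C.image_conds hgH
  have hfix : permElt D.s • (g • eightE none) = g • eightE none := by
    rw [← mul_smul, ← hg, mul_smul]
    refine congrArg (g • ·) ?_
    rw [← hSe]
    refine pk_injective (norm_axis _ none) (sqNorm_eightE none).le ?_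
    rw [eltW_app hokS (eightE none) (sqNorm_eightE none).le, enc_none]
    exact hsO
  have hmem := fixed_mem hfs (permElt_fix hsM hfix) hn hd
  simp only [List.mem_cons, List.not_mem_nil, or_false] at hmem
  rcases hmem with h | h
  · have hO : g • eightE none = eightE none :=
      pk_injective (norm_axis _ none) (sqNorm_eightE none).le (h.trans enc_none.symm)
    obtain ⟨a, ha, h', e⟩ := C.of_fixes hss hsM hsM (C.H.inv_mem hgH)
      (by rw [inv_smul_eq_iff]; exact hO.symm)
      (by rw [inv_mul_eq_iff_eq_mul, ← mul_assoc, hg, mul_inv_cancel_right])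
    have haM : Golay.inM24 a = true := has a ha
    have hu : [Atom.perm a] ∈ D.U :=
      List.mem_flatMap.mpr ⟨[], by rw [hcs]; simp, List.mem_map.mpr ⟨a, ha, rfl⟩⟩
    obtain ⟨j, hj, hje⟩ := List.getElem_of_mem hu
    refine ⟨j, hj, ?_⟩
    rw [List.getD_eq_getElem _ _ hj, hje, eltW_perm, permElt_eq haM, ← e, inv_inv]
  · exfalso
    have hf : okW [Atom.perm (cpow D.s f)] = true := by simpa [okW, Atom.ok] using hfM
    have hts := eltW_eq (okW_append.mpr ⟨hokS, hokt⟩) (okW_append.mpr ⟨hokt, hf⟩) hst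
    rw [eltW_append, eltW_append, hSe, eltW_perm] at hts
    have hmH : (eltW D.t)⁻¹ * g ∈ C.H := mul_mem (C.H.inv_mem (C.eltW_mem ht)) hgH
    have hmO : ((eltW D.t)⁻¹ * g) • eightE none = eightE none := by
      rw [mul_smul, inv_smul_eq_iff]
      refine pk_injective (norm_axis _ none) (norm_axis _ none) ?_
      rw [h, eltW_app hokt (eightE none) (sqNorm_eightE none).le, enc_none, hty]
    have hm : (eltW D.t)⁻¹ * g * permElt D.s = permElt (cpow D.s f) * ((eltW D.t)⁻¹ * g) := by
      calc (eltW D.t)⁻¹ * g * permElt D.s = (eltW D.t)⁻¹ * (permElt D.s * g) := by rw [mul_assoc, hg]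
        _ = (eltW D.t)⁻¹ * (permElt D.s * eltW D.t) * ((eltW D.t)⁻¹ * g) := by group
        _ = _ := by rw [hts]; group
    obtain ⟨a, ha, -, -⟩ := C.of_fixes hsf hsM hfM hmH hmO hm
    exact List.not_mem_nil ha

/-- Generation from a long suborbit. -/
theorem closure_eq_top {E : Sub} (hG : D.okGenK = true) (hE : E.ok D = true)
    (hK : ∀ g, g ∈ K ↔ D.spec.Holds g) (hnone : ∀ g : K, (g : Equiv.Perm GolayPt) none = none)
    (hc : (Computation.permRep 24 5 (by decide)).checkClosure D.gens steps ch = true)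
    (hcardK : Nat.card K = (Computation.permRep 24 5 (by decide)).order ch)
    [IsSimpleGroup C.H] {p : ℕ} (hp : p.Prime) (hpH : p ∣ Nat.card C.H)
    (hlt : Nat.card C.H * E.allowed.length < p * (Nat.card K * Nat.card K))
    (hX : D.fixW D.X = true) (hS : D.fixW D.S = true) (ht : D.fixW D.t = true) :
    ∀ x s t : C.H, (x : Co0) = eltW D.X → (s : Co0) = eltW D.S → (t : Co0) = eltW D.t →
      Subgroup.closure ({x, s, t} : Set C.H) = ⊤ := by
  intro x s t hx hs ht'
  set L : Subgroup C.H := Subgroup.closure ({x, s, t} : Set C.H) with hL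
  have hmem : ∀ l, (val3 x s t l : C.H) ∈ L := by
    intro l
    induction l with
    | nil => exact one_mem _
    | cons i is ih =>
      refine mul_mem ?_ ih
      fin_cases i <;> exact Subgroup.subset_closure (by simp)
  simp only [Cert.okGenK, Bool.and_eq_true, List.all_eq_true, List.mem_range, Nat.beq_eq] at hG
  obtain ⟨⟨-, hSok⟩, hgw⟩ := hG
  have hwok : ∀ l, okW (valW D.X D.S D.t l) = true :=
    okW_valW (okW_of_fixW hX) (okW_of_fixW hS) (okW_of_fixW ht)
  let L0 : Subgroup Co0 := L.map C.H.subtype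
  let f : M24 →* Co0 := permHom
  let L1 : Subgroup (Equiv.Perm GolayPt) := (L0.comap f).map M24.subtype
  have hgens : ∀ c ∈ D.gens, Golay.gperm c ∈ K ∧ Golay.gperm c ∈ L1 := by
    intro c hc'
    obtain ⟨i, hi, rfl⟩ := List.getElem_of_mem hc'
    obtain ⟨h1, h2⟩ := hgw i hi
    rw [List.getD_eq_getElem _ _ hi] at h1 h2
    obtain ⟨-, hholds⟩ := D.spec.mem_spec hSok h1
    have h1' : Golay.inM24 D.gens[i] = true := by
      simp only [Spec.mem, Bool.and_eq_true] at h1; exact h1.1.1
    have hm := eltW_eq (hwok _) (by simpa [okW, Atom.ok] using h1') h2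
    rw [eltW_perm, permElt_eq h1'] at hm
    have hv := C.val3_elt hx hs ht' (D.gw.getD i [])
    have hin : (permHom ⟨Golay.gperm D.gens[i], Golay.gperm_mem_M24 h1'⟩)⁻¹ ∈ L0 :=
      ⟨_, hmem _, hv.trans hm⟩
    exact ⟨(hK _).2 hholds, ⟨⟨_, Golay.gperm_mem_M24 h1'⟩, by simpa [f] using L0.inv_mem hin, rfl⟩⟩
  have hKle : K ≤ L1 := by
    rw [Golay.closure_eq_of_cert hc (fun c hc' => (hgens c hc').1) hcardK, Subgroup.closure_le]
    rintro _ ⟨c, hc', rfl⟩
    exact (hgens c hc').2
  have hK24 : K ≤ M24 := fun g hg => ((hK g).1 hg).1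
  let φ : K →* Co0 := permHom.comp (Subgroup.inclusion hK24)
  let K0 : Subgroup Co0 := φ.range
  have hK0 : K0 ≤ L0 := by
    rintro _ ⟨g, rfl⟩
    obtain ⟨q, hq, he⟩ := hKle g.2
    have : q = ⟨g, hK24 g.2⟩ := Subtype.ext he
    subst this
    exact hq
  have hφ : Function.Injective φ := permHom_injective.comp (Subgroup.inclusion_injective hK24)
  -- the stabiliser of the vector in the small group
  simp only [Sub.ok, Bool.and_eq_true, Nat.beq_eq] at hE
  obtain ⟨hy, hsearch⟩ := hE
  have hvy := C.val3_elt hx hs ht' E.yw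
  set g₀ : Co0 := eltW (valW D.X D.S D.t E.yw) with hg₀
  have hg₀L : g₀ ∈ L0 := ⟨_, hmem _, hvy⟩
  have hyk : pk (g₀ • eightE none) = E.y := by
    rw [eltW_app (hwok _) _ (sqNorm_eightE none).le, enc_none]; exact hy
  set y := g₀ • eightE none with hydef
  have hone : Golay.inM24 Golay.oneCode = true := by decide +kernel
  have hstab : ∀ g : K, φ g • y = y → ∃ a ∈ E.allowed, (g : Equiv.Perm GolayPt) = Golay.gperm a := by
    intro g hg
    refine searchOk_spec hsearch ⟨hK24 g.2, ?_, ?_⟩ ?_
    · simp only [Sub.spec, List.mem_singleton, forall_eq]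
      rw [show Golay.pt 23 = none from rfl, hnone g]
      rfl
    · intro m hm
      obtain ⟨v, -, rfl⟩ := List.mem_map.mp hm
      have hp' : ∀ q, vec y ((g : Equiv.Perm GolayPt) q) = vec y q :=
        permHom_apply_fix (π := ⟨g, hK24 g.2⟩) hg
      have hbit : ∀ q : GolayPt, q ∈ Golay.setOfMask (E.mask v) ↔ getW 5 E.y (Golay.idx q) = v := by
        intro q
        rw [Golay.mem_setOfMask, ← bit_eq, bit, Sub.mask,
          Computation.getW_packW (fun i _ => by cases Nat.beq (getW 5 E.y i) v <;> simp)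
            (Golay.idx_lt q)]
        by_cases h : getW 5 E.y (Golay.idx q) = v
        · simp [h]
        · rw [show Nat.beq (getW 5 E.y (Golay.idx q)) v = false by
            rw [Bool.eq_false_iff, ne_eq, Nat.beq_eq]; exact h]
          simp [h]
      have hval : ∀ q, getW 5 E.y (Golay.idx ((g : Equiv.Perm GolayPt) q)) =
          getW 5 E.y (Golay.idx q) := fun q => by
        have h1 := getW_pk_idx (norm_axis g₀ none) ((g : Equiv.Perm GolayPt) q)
        have h2 := getW_pk_idx (norm_axis g₀ none) q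
        rw [← hydef, hyk] at h1 h2
        have := hp' q
        omega
      ext q
      rw [Finset.mem_smul_finset]
      constructor
      · rintro ⟨r, hr, rfl⟩
        rw [hbit] at hr ⊢
        exact (hval r).trans hr
      · intro hq
        refine ⟨(g : Equiv.Perm GolayPt).symm q, ?_, Equiv.apply_symm_apply _ _⟩
        rw [hbit] at hq ⊢
        have := hval ((g : Equiv.Perm GolayPt).symm q)
        rw [Equiv.apply_symm_apply] at this
        exact this.symm.trans hq
    · rw [Golay.gperm_oneCode, mul_one, one_mul]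
  haveI : Finite K := inferInstance
  letI : MulAction K leechLattice := MulAction.compHom leechLattice φ
  have hsmall : Nat.card (MulAction.stabilizer K y) ≤ E.allowed.length := by
    refine le_trans (Nat.card_le_card_of_injective
      (β := {π : Equiv.Perm GolayPt // π ∈ (E.allowed.map Golay.gperm).toFinset})
      (fun g => ⟨(g : K), ?_⟩) ?_) ?_
    · obtain ⟨a, ha, e⟩ := hstab g g.2
      exact List.mem_toFinset.mpr (List.mem_map.mpr ⟨a, ha, e.symm⟩)
    · intro a b hab
      exact Subtype.ext (Subtype.ext (Subtype.mk.inj hab))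
    · rw [Nat.card_eq_fintype_card, Fintype.card_coe]
      exact (List.toFinset_card_le _).trans (List.length_map _).le
  haveI : Finite L0 := inferInstance
  have hsub : MulAction.orbit K y ⊆ MulAction.orbit L0 (eightE none) := by
    rintro _ ⟨g, rfl⟩
    exact ⟨⟨φ g * g₀, mul_mem (hK0 ⟨g, rfl⟩) hg₀L⟩, mul_smul (φ g) g₀ (eightE none)⟩
  have horb : Nat.card (MulAction.orbit K y) ≤ Nat.card (MulAction.orbit L0 (eightE none)) := by
    rw [Nat.card_coe_set_eq, Nat.card_coe_set_eq]
    exact Set.ncard_le_ncard hsub (Set.finite_range _)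
  have hKst : Nat.card K ≤ Nat.card (MulAction.stabilizer L0 (eightE none)) := by
    refine Nat.card_le_card_of_injective (fun g : K => ⟨⟨φ g, hK0 ⟨g, rfl⟩⟩, ?_⟩) ?_
    · show permHom _ • eightE none = eightE none
      rw [permHom_eightE]; exact congrArg eightE (hnone g)
    · intro a b hab
      exact hφ (congrArg (fun q => ((q : L0) : Co0)) (congrArg Subtype.val hab))
  have hKK : Nat.card K * Nat.card K ≤ E.allowed.length * Nat.card L0 := by
    have h1 : Nat.card K ≤ Nat.card (MulAction.orbit K y) * E.allowed.length := by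
      conv_lhs => rw [← (MulAction.stabilizer K y).index_mul_card, MulAction.index_stabilizer,
        ← Nat.card_coe_set_eq]
      exact Nat.mul_le_mul_left _ hsmall
    have h2 : Nat.card (MulAction.orbit L0 (eightE none)) * Nat.card K ≤ Nat.card L0 := by
      conv_rhs => rw [← (MulAction.stabilizer L0 (eightE none)).index_mul_card,
        MulAction.index_stabilizer, ← Nat.card_coe_set_eq]
      exact Nat.mul_le_mul_left _ hKst
    calc Nat.card K * Nat.card K
        ≤ Nat.card (MulAction.orbit K y) * E.allowed.length * Nat.card K :=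
          Nat.mul_le_mul_right _ h1
      _ = E.allowed.length * (Nat.card (MulAction.orbit K y) * Nat.card K) := by ring
      _ ≤ _ := Nat.mul_le_mul_left _ ((Nat.mul_le_mul_right _ horb).trans h2)
  rw [show Nat.card L0 = Nat.card L from Subgroup.card_map_of_injective C.H.subtype_injective] at hKK
  refine eq_top_of_index_lt hp hpH ?_
  by_contra hge
  push Not at hge
  have h3 : p * (Nat.card K * Nat.card K) ≤ L.index * (E.allowed.length * Nat.card L) :=
    Nat.mul_le_mul hge hKK
  rw [← L.index_mul_card] at hlt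
  nlinarith

/-- Trivial outer automorphism group from a long suborbit. -/
theorem card_out_one_sub {E : Sub} {y f : ℕ} {lf : List Level} (hG : D.okGenK = true)
    (hE : E.ok D = true) (hC : D.okCentTwo y f lf = true) (hT : D.okTri = true)
    (hR : D.okRel = true) (hTab : D.okTab = true) (hno : D.noOuter = true)
    (hK : ∀ g, g ∈ K ↔ D.spec.Holds g) (hnone : ∀ g : K, (g : Equiv.Perm GolayPt) none = none)
    (hp : D.p.Prime) (hsq : ¬ D.p ^ 2 ∣ Nat.card C.H) (hpH : D.p ∣ Nat.card C.H)
    (hc : (Computation.permRep 24 5 (by decide)).checkClosure D.gens steps ch = true)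
    (hcardK : Nat.card K = (Computation.permRep 24 5 (by decide)).order ch)
    [IsSimpleGroup C.H]
    (hlt : Nat.card C.H * E.allowed.length < D.p * (Nat.card K * Nat.card K)) :
    Nat.card (Out C.H) = 1 := by
  have hT' := hT
  simp only [Cert.okTri, Bool.and_eq_true] at hT'
  obtain ⟨⟨⟨⟨⟨⟨⟨⟨⟨⟨⟨⟨hX, hS⟩, htw⟩, -⟩, -⟩, -⟩, -⟩, -⟩, -⟩, -⟩, -⟩, -⟩, -⟩ := hT'
  have hC' := hC
  simp only [Cert.okCentTwo, Bool.and_eq_true, List.all_eq_true, List.isEmpty_iff] at hC'
  obtain ⟨⟨⟨⟨⟨⟨⟨⟨⟨⟨⟨hfx, hsx⟩, -⟩, -⟩, has⟩, -⟩, hnil⟩, hone⟩, -⟩, -⟩, -⟩, -⟩ := hC'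
  obtain ⟨T, hTp, hx, hs, ht, hU, -⟩ := C.tri_of hT hfx hsx hp hsq
    (C.closure_eq_top hG hE hK hnone hc hcardK hp hpH hlt hX hS htw)
    (fun g hg => C.cent_s_mem_two hC hT g.2 hg)
  refine T.card_out_one D.rels (C.rels_hold hR hx hs ht (okW_of_fixW hX) (okW_of_fixW hS)
    (okW_of_fixW htw)) fun k hk hk0 u hu => ?_
  rcases C.table_spec hTab hTp hx hs ht hU (fun c hc => by rw [hnil c hc]; exact hone) has hT 1
    (Or.inl hno) k hk hk0 u hu with h | ⟨c, h1, h | h⟩
  · exact Or.inl h
  · exact Or.inr ⟨c, h1, h⟩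
  · rw [hno] at h; exact absurd h.1.symm Bool.false_ne_true

end Ctx

end Cfsg.Agent.Lib.ConwayOut
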