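import Cfsg.Agent.Lib.ConwayOut.QuotCert
import Cfsg.Agent.Lib.ConwayOut.Suborbit

/-!
# Automorphisms of the lattice group modulo the centre: certificate
-/

set_option autoImplicit false

namespace Cfsg.Agent.Lib.ConwayOut

open Cfsg Cfsg.Agent.Lib Cfsg.Agent.Lib.Leech Cfsg.Agent.Lib.OutTrivial
open Cfsg.Agent.Lib.Computation (getW packW)
open scoped Pointwise

/-- The certificate. -/
structure QCert where
  p : ℕ
  r : ℕ
  e : ℕ
  f : ℕ
  x : ℕ
  s : ℕ
  t : Word
  cs : List Word
  as : List ℕ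
  signs : List ℕ
  lx : List Level
  ls : List Level
  cX : Cls
  cS : Cls
  rels : List (List (Fin 3))
  tab : List (List (ℕ × ℕ × ℕ))
  mw : List (Fin 3)
  md : ℕ
  mp : ℕ
  mn : ℕ
  sd : ℕ
  rot : List ℕ
  sel : List ℕ
  gens : List ℕ
  yw : List (Fin 3)
  y : ℕ
  four : ℕ
  cv : ℕ

namespace QCert

variable (D : QCert)

/-- The word of the first generator. -/
def X : Word := [.perm D.x]

/-- The word of the second generator. -/
def S : Word := [.perm D.s]

/-- The centralizer of the second generator modulo the centre. -/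
def U : List Word :=
  D.cs.flatMap fun c => D.as.flatMap fun a => D.signs.map fun m => c ++ [.perm a, .sign m]

/-- The triple. -/
def okTri : Bool :=
  Golay.inM24 D.x && Golay.inM24 D.s && okW D.t &&
  Nat.beq (getW 5 D.x 23) 23 && Nat.beq (getW 5 D.s 23) 23 &&
  ((List.range (D.p + 1)).all fun i => Golay.inM24 (cpow D.x i)) &&
  Nat.beq (cpow D.x D.p) Golay.oneCode && notOne D.x &&
  Golay.inM24 (cpow D.s 11) && Nat.beq (cpow D.s 11) Golay.oneCode &&
  Golay.inM24 (cpow D.x D.r) && eqQ (D.S ++ D.X) ([.perm (cpow D.x D.r)] ++ D.S) &&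
  Golay.inM24 (cpow D.s D.e) && eqQ (D.t ++ D.S) ([.perm (cpow D.s D.e)] ++ D.t) &&
  (List.range D.p).all fun i => (List.range D.p).any fun m =>
    eqQ (D.S ++ [.perm (cpow D.x i)] ++ [.perm (cpow D.x m)]) ([.perm (cpow D.x m)] ++ D.S)

/-- The centralizer of the first generator. -/
def okCentX : Bool :=
  fixedOk D.cX D.x [] [axP 23, appW negW (axP 23)] &&
  searchOk ⟨[23], []⟩ D.x D.x ((List.range D.p).map (cpow D.x)) D.lx && signsOk D.x [0]

/-- The centralizer of the second generator. -/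
def okCentS : Bool :=
  fixedOk D.cS D.s [] (D.cs.flatMap fun c =>
    [appW c (axP 23), appW (negW ++ c) (axP 23), appW (c ++ D.t) (axP 23),
      appW (negW ++ (c ++ D.t)) (axP 23)]) &&
  searchOk ⟨[23], []⟩ D.s D.s D.as D.ls && D.as.all Golay.inM24 &&
  D.signs.all Golay.inCode && signsOk D.s D.signs &&
  (D.cs.all fun c => okW c && eqW (c ++ D.S) (D.S ++ c)) &&
  Golay.inM24 (cpow D.s D.f) && eqW (D.S ++ D.t) (D.t ++ [.perm (cpow D.s D.f)]) &&
  searchOk ⟨[23], []⟩ D.s (cpow D.s D.f) [] D.ls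

/-- The generation of the stabiliser of the axis line and the long suborbit. -/
def okGen : Bool :=
  Golay.inCode D.md && Golay.inM24 D.mp && Golay.inCode D.sd &&
  eqQ (valW D.X D.S D.t D.mw) [.sign D.md, .perm D.mp] &&
  eqW ((List.replicate D.mn [Atom.sign D.md, Atom.perm D.mp]).flatten) [.sign D.sd] &&
  Nat.beq D.rot.length 23 &&
  ((List.range 23).all fun j => Golay.inCode (D.rot.getD j 0) && Golay.inM24 (cpow D.x j) &&
    Golay.inM24 (cpow D.x (D.p - j)) &&
    eqW [.perm (cpow D.x j), .sign D.sd, .perm (cpow D.x (D.p - j))] [.sign (D.rot.getD j 0)]) &&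
  Nat.beq D.sel.length Golay.rows.length &&
  ((List.range Golay.rows.length).all fun i =>
    Nat.beq (Golay.combine (16777215 :: D.rot) (D.sel.getD i 0)) (Golay.rows.getD i 0)) &&
  (D.gens.all fun c => Nat.beq c D.x || Nat.beq c D.s || Nat.beq c D.mp) &&
  D.gens.all (fun c => (⟨[23], []⟩ : Spec).mem c) &&
  Nat.beq (appW (valW D.X D.S D.t D.yw) (axP 23)) D.y &&
  Nat.beq ((List.range 23).countP fun i => D.four.testBit i) 4 && !D.four.testBit 23 &&
  Nat.blt D.four (2 ^ 24) && Nat.ble D.cv 32 &&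
  (List.range 24).all fun i => !Nat.beq (getW 5 D.y i) 16 &&
    (Nat.beq i 23 || (D.four.testBit i ==
      (Nat.beq (getW 5 D.y i) D.cv || Nat.beq (getW 5 D.y i) (32 - D.cv))))

/-- The relations. -/
def okRel : Bool := D.rels.all fun w => eqQ (valW D.X D.S D.t w) []

/-- One entry of the table. -/
def entryOk (k : ℕ) (u : Word) (e : ℕ × ℕ × ℕ) : Bool :=
  let xk : Word := [.perm (cpow D.x k)]
  bif Nat.beq e.1 0 then
    Nat.blt e.2.1 D.rels.length && Nat.blt e.2.2 24 &&
      Computation.forceNat (appW (valW xk D.S (D.t ++ u) (D.rels.getD e.2.1 [])) (axP e.2.2)) fun v =>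
        !Nat.beq v (axP e.2.2) && !Nat.beq v (appW negW (axP e.2.2))
  else
    Nat.blt e.2.1 D.U.length &&
    let c := D.U.getD e.2.1 []
    eqQ (c ++ D.S) (D.S ++ c) && eqQ (c ++ D.X) (xk ++ c) && eqQ (c ++ D.t) (D.t ++ u ++ c)

/-- One row of the table. -/
def okRow (k : ℕ) : Bool :=
  Nat.beq k 0 ||
    (List.range D.U.length).all fun j =>
      D.entryOk k (D.U.getD j []) ((D.tab.getD (k - 1) []).getD j (0, 0, 0))

/-- The table is right. -/
def okTab : Bool := (List.range D.p).all D.okRow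

end QCert

theorem permElt_ne_one {c : ℕ} (hc : Golay.inM24 c = true) (h1 : notOne c = true) : permElt c ≠ 1 := by
  intro h
  rw [permElt_eq hc, inv_eq_one, ← map_one permHom] at h
  have h' := congrArg Subtype.val (permHom_injective h)
  simp only [OneMemClass.coe_one] at h'
  simp only [notOne, List.any_eq_true, List.mem_range, Bool.not_eq_true'] at h1
  obtain ⟨i, hi, hne⟩ := h1
  have e := Golay.idx_gperm (Golay.okCode_of_inM24 hc) (Golay.pt i)
  rw [h', Equiv.Perm.one_apply, Golay.idx_pt hi] at e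
  rw [← e, Nat.beq_refl] at hne
  exact Bool.false_ne_true hne.symm

theorem permElt_pow_one {c n : ℕ} (hc : Golay.inM24 c = true) (hn : Golay.inM24 (cpow c n) = true)
    (h : Nat.beq (cpow c n) Golay.oneCode = true) : permElt c ^ n = 1 := by
  rw [← permElt_pow hc hn, permElt_eq hn, inv_eq_one, ← map_one permHom]
  refine congrArg permHom (Subtype.ext ?_)
  show Golay.gperm (cpow c n) = 1
  rw [Nat.eq_of_beq_eq_true h]; exact Golay.gperm_oneCode

theorem perm_fix_axis {c : ℕ} (hc : Golay.inM24 c = true) (h : Nat.beq (getW 5 c 23) 23 = true) :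
    permElt c • eightE none = eightE none := by
  rw [permElt_eq hc, inv_smul_eq_iff, permHom_eightE]
  refine congrArg eightE (Golay.idx_injective ?_)
  show Golay.idx none = Golay.idx (Golay.gperm c none)
  rw [Golay.idx_gperm (Golay.okCode_of_inM24 hc)]
  exact (Nat.eq_of_beq_eq_true h).symm

theorem norm_axis' (g : Co0) : sqNorm (vec (g • eightE none)) ≤ 64 := by
  rw [norm_smul', sqNorm_eightE]

theorem pk_axis : pk (eightE none) = axP 23 := pk_eightE none

/-- The image of the axis vector under a commuting element is a listed fixed vector. -/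
theorem image_mem {c : ℕ} {C : Cls} {Y : List ℕ} (hc : Golay.inM24 c = true)
    (h23 : Nat.beq (getW 5 c 23) 23 = true) (hfix : fixedOk C c [] Y = true) {g : Co0}
    (hg : g * permElt c = permElt c * g) : pk (g • eightE none) ∈ Y := by
  refine fixed_mem hfix (permElt_fix hc ?_) ?_ fun _ h => absurd h List.not_mem_nil
  · rw [← mul_smul, ← hg, mul_smul, perm_fix_axis hc h23]
  · rw [norm_smul', sqNorm_eightE]

theorem val3_q {a b c : Spor.Co1} {wa wb wc : Word} (ha : a = q wa) (hb : b = q wb) (hc : c = q wc) :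
    ∀ l, val3 a b c l = q (valW wa wb wc l)
  | [] => q_nil.symm
  | i :: is => by
    show ![a, b, c] i * val3 a b c is = q (![wa, wb, wc] i ++ valW wa wb wc is)
    rw [q_append, val3_q ha hb hc is]
    congr 1
    fin_cases i
    exacts [ha, hb, hc]

namespace QCert

variable {D : QCert}

theorem eltW_sign_xor {a b : ℕ} (ha : Golay.inCode a = true) (hb : Golay.inCode b = true)
    (hab : Golay.inCode (a ^^^ b) = true) :
    eltW [Atom.sign (a ^^^ b)] = eltW [Atom.sign a] * eltW [Atom.sign b] := by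
  rw [eltW_sign ha, eltW_sign hb, eltW_sign hab]
  refine co0_ext fun i => ?_
  have hA := flip_eightE (Golay.setOfMask_mem_supports ha) i
  have hB := flip_eightE (Golay.setOfMask_mem_supports hb) i
  have hC := flip_eightE (Golay.setOfMask_mem_supports hab) i
  rw [mul_smul, hB, hC]
  simp only [Golay.mem_setOfMask, Nat.testBit_xor] at hA ⊢
  cases hb' : b.testBit (Golay.idx i) <;> cases ha' : a.testBit (Golay.idx i) <;>
    simp [ha'] at hA <;> simp [smul_neg', hA]

theorem eltW_sign_zero : eltW [Atom.sign 0] = 1 := by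
  have h0 : Golay.inCode 0 = true := by decide +kernel
  have h := eltW_sign_xor h0 h0 (by simpa using h0)
  rw [Nat.xor_self] at h
  exact mul_eq_left.mp h.symm

/-- The centralizer of the first generator is cyclic. -/
theorem cent_x (hC : D.okCentX = true) (hT : D.okTri = true) (hp : Odd D.p) {g : Spor.Co1}
    (hg : g * q D.X = q D.X * g) : ∃ i < D.p, g = q D.X ^ i := by
  simp only [okTri, Bool.and_eq_true, List.all_eq_true, List.mem_range] at hT
  obtain ⟨⟨⟨⟨⟨⟨⟨⟨⟨⟨⟨⟨⟨⟨hxM, -⟩, -⟩, hx23⟩, -⟩, hpow⟩, hxp⟩, -⟩, -⟩, -⟩, -⟩, -⟩, -⟩, -⟩, -⟩ := hT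
  simp only [okCentX, Bool.and_eq_true] at hC
  obtain ⟨⟨hfx, hsx⟩, hsg⟩ := hC
  have hX : eltW D.X = permElt D.x := eltW_perm D.x
  obtain ⟨G, rfl⟩ := LeechMod2.Frame.bar_surjective g
  rw [q, hX] at hg
  have hcomm := lift_comm hp (permElt_pow_one hxM (hpow _ (Nat.lt_succ_self _)) hxp)
    (permElt_pow_one hxM (hpow _ (Nat.lt_succ_self _)) hxp) hg
  obtain ⟨G', hG', hc', hO⟩ : ∃ G', LeechMod2.Frame.bar G' = LeechMod2.Frame.bar G ∧
      G' * permElt D.x = permElt D.x * G' ∧ G' • eightE none = eightE none := by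
    have hm := image_mem hxM hx23 hfx hcomm
    simp only [List.mem_cons, List.not_mem_nil, or_false] at hm
    rcases hm with h | h
    · exact ⟨G, rfl, hcomm, pk_injective (norm_axis' G) (sqNorm_eightE none).le (h.trans pk_axis.symm)⟩
    · refine ⟨negOne * G, by rw [map_mul, bar_negOne, one_mul], ?_, ?_⟩
      · rw [mul_assoc, hcomm, ← mul_assoc, ← mul_assoc]
        exact congrArg (· * G) (Subgroup.mem_center_iff.mp negOne_mem_center (permElt D.x)).symm
      · rw [← pk_axis, ← eltW_app okW_negW _ (sqNorm_eightE none).le] at h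
        have := pk_injective (norm_axis' G) (norm_axis' _) h
        rw [mul_smul, this, eltW_negW, negOne_smul, negOne_smul, neg_neg]
  obtain ⟨a, ha, m, hm, he⟩ := centralizer_axis hxM hsx hsg (fun a ha => by
    obtain ⟨i, hi, rfl⟩ := List.mem_map.mp ha
    exact hpow i (by rw [List.mem_range] at hi; omega)) hO hc'
  obtain ⟨i, hi, rfl⟩ := List.mem_map.mp ha
  rw [List.mem_range] at hi
  rw [List.mem_singleton] at hm
  subst hm
  refine ⟨i, hi, ?_⟩
  rw [← hG', he, q, ← map_pow]
  refine congrArg _ ?_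
  rw [show [Atom.perm (cpow D.x i), Atom.sign 0] = [Atom.perm (cpow D.x i)] ++ [Atom.sign 0] from rfl,
    eltW_append, eltW_sign_zero, mul_one, eltW_perm, hX, permElt_pow hxM (hpow i (by omega))]

theorem mem_U {c : Word} {a m : ℕ} (hc : c ∈ D.cs) (ha : a ∈ D.as) (hm : m ∈ D.signs) :
    c ++ [Atom.perm a, Atom.sign m] ∈ D.U :=
  List.mem_flatMap.mpr ⟨c, hc, List.mem_flatMap.mpr ⟨a, ha, List.mem_map.mpr ⟨m, hm, rfl⟩⟩⟩

/-- The centralizer of the second generator. -/
theorem cent_s (hC : D.okCentS = true) (hT : D.okTri = true) {g : Spor.Co1}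
    (hg : g * q D.S = q D.S * g) : ∃ j < D.U.length, g = q (D.U.getD j []) := by
  simp only [okTri, Bool.and_eq_true, List.all_eq_true, List.mem_range] at hT
  obtain ⟨⟨⟨⟨⟨⟨⟨⟨⟨⟨⟨⟨⟨⟨-, hsM⟩, htok⟩, -⟩, hs23⟩, -⟩, -⟩, -⟩, hs11M⟩, hs11⟩, -⟩, -⟩, -⟩, -⟩, -⟩ := hT
  simp only [okCentS, Bool.and_eq_true, List.all_eq_true] at hC
  obtain ⟨⟨⟨⟨⟨⟨⟨⟨hfs, hss⟩, has⟩, -⟩, hsg⟩, hcs⟩, hfM⟩, hst⟩, hsf⟩ := hC
  have hS : eltW D.S = permElt D.s := eltW_perm D.s
  have hokS : okW D.S = true := by simpa [okW, S, Atom.ok] using hsM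
  obtain ⟨G, rfl⟩ := LeechMod2.Frame.bar_surjective g
  rw [q, hS] at hg
  have h11 := permElt_pow_one hsM hs11M hs11
  have hcomm := lift_comm (n := 11) (by decide) h11 h11 hg
  have hneg : ∀ w : Co0, w * negOne = negOne * w :=
    fun w => Subgroup.mem_center_iff.mp negOne_mem_center w
  have hm := image_mem hsM hs23 hfs hcomm
  obtain ⟨c, hc, hm⟩ := List.mem_flatMap.mp hm
  obtain ⟨hcok, hcc⟩ := hcs c hc
  have hcS := eltW_eq (okW_append.mpr ⟨hcok, hokS⟩) (okW_append.mpr ⟨hokS, hcok⟩) hcc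
  rw [eltW_append, eltW_append, hS] at hcS
  obtain ⟨n, G', hn, hG', hc', hpk⟩ : ∃ (n : Word) (G' : Co0),
      (n = c ∨ n = c ++ D.t) ∧ LeechMod2.Frame.bar G' = LeechMod2.Frame.bar G ∧
      G' * permElt D.s = permElt D.s * G' ∧ G' • eightE none = eltW n • eightE none := by
    have hnok : ∀ n, (n = c ∨ n = c ++ D.t) → okW n = true := by
      rintro n (rfl | rfl)
      · exact hcok
      · exact okW_append.mpr ⟨hcok, htok⟩
    have base : ∀ n, (n = c ∨ n = c ++ D.t) → pk (G • eightE none) = appW n (axP 23) →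
        G • eightE none = eltW n • eightE none := fun n hn h =>
      pk_injective (norm_axis' G) (norm_axis' _) (by
        rw [h, eltW_app (hnok n hn) _ (sqNorm_eightE none).le, pk_axis])
    have negc : ∀ n, (n = c ∨ n = c ++ D.t) → pk (G • eightE none) = appW (negW ++ n) (axP 23) →
        (negOne * G) * permElt D.s = permElt D.s * (negOne * G) ∧
          (negOne * G) • eightE none = eltW n • eightE none := by
      intro n hn h
      refine ⟨by rw [mul_assoc, hcomm, ← mul_assoc, ← hneg, mul_assoc], ?_⟩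
      have := pk_injective (norm_axis' G) (norm_axis' _) (h.trans (by
        rw [← pk_axis, ← eltW_app (okW_append.mpr ⟨okW_negW, hnok n hn⟩) _ (sqNorm_eightE none).le]))
      rw [mul_smul, this, eltW_append, eltW_negW, mul_smul, negOne_smul, negOne_smul, neg_neg]
    have hb : LeechMod2.Frame.bar (negOne * G) = LeechMod2.Frame.bar G := by
      rw [map_mul, bar_negOne, one_mul]
    simp only [List.mem_cons, List.not_mem_nil, or_false] at hm
    rcases hm with h | h | h | h
    · exact ⟨c, G, Or.inl rfl, rfl, hcomm, base c (Or.inl rfl) h⟩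
    · exact ⟨c, negOne * G, Or.inl rfl, hb, (negc c (Or.inl rfl) h).1, (negc c (Or.inl rfl) h).2⟩
    · exact ⟨_, G, Or.inr rfl, rfl, hcomm, base _ (Or.inr rfl) h⟩
    · exact ⟨_, negOne * G, Or.inr rfl, hb, (negc _ (Or.inr rfl) h).1, (negc _ (Or.inr rfl) h).2⟩
  set M := (eltW c)⁻¹ * G' with hM
  have hMc : M * permElt D.s = permElt D.s * M := by
    calc M * permElt D.s = (eltW c)⁻¹ * (permElt D.s * G') := by rw [hM, mul_assoc, hc']
      _ = (eltW c)⁻¹ * (permElt D.s * eltW c) * M := by rw [hM]; group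
      _ = _ := by rw [← hcS]; group
  rcases hn with rfl | rfl
  · have hMO : M • eightE none = eightE none := by rw [hM, mul_smul, hpk, inv_smul_smul]
    obtain ⟨a, ha, m, hm', he⟩ := centralizer_axis hsM hss hsg has hMO hMc
    obtain ⟨j, hj, hje⟩ := List.getElem_of_mem (mem_U hc ha hm')
    refine ⟨j, hj, ?_⟩
    rw [List.getD_eq_getElem _ _ hj, hje, q, eltW_append, ← he, hM, mul_inv_cancel_left, hG']
  · exfalso
    have hf : okW [Atom.perm (cpow D.s D.f)] = true := by simpa [okW, Atom.ok] using hfM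
    have hts := eltW_eq (okW_append.mpr ⟨hokS, htok⟩) (okW_append.mpr ⟨htok, hf⟩) hst
    rw [eltW_append, eltW_append, hS, eltW_perm] at hts
    refine no_intertwiner hsM hfM hsf (g := (eltW D.t)⁻¹ * M) ?_ ?_
    · rw [mul_smul, hM, mul_smul, hpk, eltW_append, mul_smul, inv_smul_smul, inv_smul_smul]
    · calc (eltW D.t)⁻¹ * M * permElt D.s = (eltW D.t)⁻¹ * (permElt D.s * M) := by rw [mul_assoc, hMc]
        _ = (eltW D.t)⁻¹ * (permElt D.s * eltW D.t) * ((eltW D.t)⁻¹ * M) := by group
        _ = _ := by rw [hts]; group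

theorem inCode_xor {a b : ℕ} (ha : Golay.inCode a = true) (hb : Golay.inCode b = true) :
    Golay.inCode (a ^^^ b) = true := by
  obtain ⟨i, hi, rfl⟩ := Golay.inCode_iff.mp ha
  obtain ⟨j, hj, rfl⟩ := Golay.inCode_iff.mp hb
  rw [← Golay.enc_xor hi hj]
  exact Golay.inCode_enc (Nat.xor_lt_two_pow (n := 12) hi hj)

theorem combine_mem_sub {L : Subgroup Co0} : ∀ (rs : List ℕ) (k : ℕ),
    (∀ r ∈ rs, Golay.inCode r = true ∧ eltW [Atom.sign r] ∈ L) →
    Golay.inCode (Golay.combine rs k) = true ∧ eltW [Atom.sign (Golay.combine rs k)] ∈ L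
  | [], k, _ => by
    have h0 : Golay.inCode 0 = true := by decide +kernel
    refine ⟨h0, ?_⟩
    show eltW [Atom.sign 0] ∈ L
    rw [eltW_sign_zero]; exact one_mem L
  | r :: rs, k, h => by
    obtain ⟨h1, h2⟩ := combine_mem_sub rs (k / 2) fun s hs => h s (List.mem_cons_of_mem _ hs)
    obtain ⟨hr, hrL⟩ := h r List.mem_cons_self
    rw [Golay.combine]
    split_ifs
    · refine ⟨inCode_xor hr h1, ?_⟩
      rw [eltW_sign_xor hr h1 (inCode_xor hr h1)]
      exact L.mul_mem hrL h2
    · rw [Nat.zero_xor]; exact ⟨h1, h2⟩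

theorem replicate_mem {L : Subgroup Co0} {w : Word} (h : eltW w ∈ L) :
    ∀ n, eltW (List.replicate n w).flatten ∈ L
  | 0 => one_mem L
  | n + 1 => by
    rw [List.replicate_succ, List.flatten_cons, eltW_append]
    exact L.mul_mem h (replicate_mem h n)

theorem four_orbit {T T' : Finset GolayPt} (hT : T.card = 4) (hT' : T'.card = 4) (hn : none ∉ T)
    (hn' : none ∉ T') : ∃ g : Spor.M23, (g : Equiv.Perm GolayPt) • T = T' := by
  classical
  have key : ∀ S : Finset GolayPt, S.card = 4 → none ∉ S →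
      ∃ x : Fin 5 ↪ GolayPt, x 0 = none ∧ ∀ q, q ∈ S ↔ ∃ i : Fin 5, i ≠ 0 ∧ x i = q := by
    intro S hS hnS
    let e := (S.equivFinOfCardEq hS).symm
    refine ⟨⟨Fin.cons none fun i => (e i : GolayPt), ?_⟩, rfl, fun q => ?_⟩
    · rw [Fin.cons_injective_iff]
      refine ⟨?_, fun i j h => e.injective (Subtype.ext h)⟩
      rintro ⟨i, hi⟩
      exact hnS (hi ▸ (e i).2)
    · constructor
      · intro hq
        refine ⟨(e.symm ⟨q, hq⟩).succ, Fin.succ_ne_zero _, ?_⟩
        simp [e.apply_symm_apply]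
      · rintro ⟨i, hi, rfl⟩
        obtain ⟨j, rfl⟩ := Fin.exists_succ_eq.mpr hi
        simp only [Function.Embedding.coeFn_mk, Fin.cons_succ]
        exact (e j).2
  obtain ⟨x, hx0, hx⟩ := key T hT hn
  obtain ⟨x', hx0', hx'⟩ := key T' hT' hn'
  obtain ⟨g, hg, hgx⟩ := Golay.exists_map_five x x'
  have hgn : g none = none := by rw [← hx0, hgx 0, hx0', hx0]
  refine ⟨⟨g, hg, hgn⟩, ?_⟩
  ext q
  rw [Finset.mem_smul_finset, hx']
  constructor
  · rintro ⟨r, hr, rfl⟩
    obtain ⟨i, hi, rfl⟩ := (hx r).1 hr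
    exact ⟨i, hi, (hgx i).symm⟩
  · rintro ⟨i, hi, rfl⟩
    exact ⟨x i, (hx _).2 ⟨i, hi, rfl⟩, hgx i⟩

/-- The setwise stabiliser of four points has order at most 1152. -/
theorem card_stab_four {T : Finset GolayPt} (hT : T.card = 4) (hn : none ∉ T) :
    Nat.card {g : Spor.M23 // (g : Equiv.Perm GolayPt) • T = T} ≤ 1152 := by
  classical
  letI : MulAction Spor.M23 (Finset GolayPt) := MulAction.compHom _ Spor.M23.subtype
  have h1 := (MulAction.stabilizer Spor.M23 T).index_mul_card
  rw [MulAction.index_stabilizer, Golay.card_spor_M23] at h1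
  have h2 : 8855 ≤ (MulAction.orbit Spor.M23 T).ncard := by
    have hc : ((Finset.univ.erase (none : GolayPt)).powersetCard 4).card = 8855 := by
      rw [Finset.card_powersetCard, Finset.card_erase_of_mem (Finset.mem_univ _), Finset.card_univ,
        Golay.card_golayPt]
      decide +kernel
    rw [← hc, ← Set.ncard_coe_finset]
    refine Set.ncard_le_ncard (fun S hS => ?_) (Set.toFinite _)
    rw [Finset.mem_coe, Finset.mem_powersetCard] at hS
    obtain ⟨g, hg⟩ := four_orbit hT hS.2 hn fun h => (Finset.mem_erase.mp (hS.1 h)).1 rfl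
    exact ⟨g, hg⟩
  by_contra hlt
  push Not at hlt
  have h3 : 8855 * 1153 ≤ 10200960 := h1 ▸ Nat.mul_le_mul h2 hlt
  norm_num at h3

set_option maxHeartbeats 800000 in
/-- The triple generates. -/
theorem closure_eq_top (hG : D.okGen = true) (hT : D.okTri = true)
    {steps : List (Computation.Step ℕ)} {ch : List (Computation.Level ℕ)}
    (hc : (Computation.permRep 24 5 (by decide)).checkClosure D.gens steps ch = true)
    (hcardK : (Computation.permRep 24 5 (by decide)).order ch = 10200960)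
    (hp : D.p = 23) :
    Subgroup.closure ({q D.X, q D.S, q D.t} : Set Spor.Co1) = ⊤ := by
  classical
  simp only [okTri, Bool.and_eq_true, List.all_eq_true, List.mem_range] at hT
  obtain ⟨⟨⟨⟨⟨⟨⟨⟨⟨⟨⟨⟨⟨⟨hxM, hsM⟩, htok⟩, -⟩, -⟩, hpow⟩, -⟩, -⟩, -⟩, -⟩, -⟩, -⟩, -⟩, -⟩, -⟩ := hT
  simp only [okGen, Bool.and_eq_true, List.all_eq_true, List.mem_range, Nat.beq_eq, Bool.or_eq_true,
    Bool.not_eq_true', Nat.blt_eq, Nat.ble_eq, beq_iff_eq] at hG
  obtain ⟨⟨⟨⟨⟨⟨⟨⟨⟨⟨⟨⟨⟨⟨⟨⟨hmd, hmp⟩, hsd⟩, hmw⟩, hmn⟩, hrotlen⟩, hrot⟩, hsel⟩, hrows⟩, hgens⟩,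
    hmem⟩, hy⟩, hfour⟩, h23⟩, hlt⟩, hcv⟩, hclass⟩ := hG
  set L : Subgroup Spor.Co1 := Subgroup.closure ({q D.X, q D.S, q D.t} : Set Spor.Co1)
  set L0 : Subgroup Co0 := L.comap LeechMod2.Frame.bar with hL0
  have hval : ∀ l, q (valW D.X D.S D.t l) ∈ L := by
    intro l
    induction l with
    | nil => rw [show valW D.X D.S D.t [] = [] from rfl, q_nil]; exact one_mem _
    | cons i is ih =>
      rw [show valW D.X D.S D.t (i :: is) = ![D.X, D.S, D.t] i ++ valW D.X D.S D.t is from rfl,
        q_append]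
      refine mul_mem ?_ ih
      fin_cases i <;> exact Subgroup.subset_closure (by simp)
  have hokX : okW D.X = true := by simpa [okW, X, Atom.ok] using hxM
  have hokS : okW D.S = true := by simpa [okW, S, Atom.ok] using hsM
  have hM : eltW [Atom.sign D.md, Atom.perm D.mp] ∈ L0 := by
    show q [Atom.sign D.md, Atom.perm D.mp] ∈ L
    rw [← q_eq (okW_valW hokX hokS htok _) (by simp [okW, Atom.ok, hmd, hmp]) hmw]
    exact hval _
  have hd : eltW [Atom.sign D.sd] ∈ L0 := by
    rw [← eltW_eq ?_ (by simp [okW, Atom.ok, hsd]) hmn]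
    · exact replicate_mem hM _
    · simp [okW, List.mem_flatten, Atom.ok, hmd, hmp]
  have hxL : permElt D.x ∈ L0 := by
    rw [← eltW_perm]
    show q D.X ∈ L
    exact Subgroup.subset_closure (by simp)
  have hsL : permElt D.s ∈ L0 := by
    rw [← eltW_perm]
    show q D.S ∈ L
    exact Subgroup.subset_closure (by simp)
  have hneg : negOne ∈ L0 := by
    show LeechMod2.Frame.bar negOne ∈ L
    rw [bar_negOne]; exact one_mem L
  have hgensigns : ∀ r ∈ 16777215 :: D.rot, Golay.inCode r = true ∧ eltW [Atom.sign r] ∈ L0 := by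
    intro r hr
    rcases List.mem_cons.mp hr with rfl | hr
    · exact ⟨by decide +kernel, eltW_negW ▸ hneg⟩
    · obtain ⟨j, hj, rfl⟩ := List.getElem_of_mem hr
      rw [hrotlen] at hj
      obtain ⟨⟨⟨h1, h2⟩, h3⟩, h4⟩ := hrot j hj
      rw [List.getD_eq_getElem _ _ (by omega)] at h1 h4
      refine ⟨h1, ?_⟩
      rw [← eltW_eq (by simp [okW, Atom.ok, h2, h3, hsd]) (by simp [okW, Atom.ok, h1]) h4]
      rw [show [Atom.perm (cpow D.x j), Atom.sign D.sd, Atom.perm (cpow D.x (D.p - j))] =
        [Atom.perm (cpow D.x j)] ++ ([Atom.sign D.sd] ++ [Atom.perm (cpow D.x (D.p - j))]) from rfl,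
        eltW_append, eltW_append, eltW_perm, eltW_perm, permElt_pow hxM h2, permElt_pow hxM h3]
      exact L0.mul_mem (L0.pow_mem hxL _) (L0.mul_mem hd (L0.pow_mem hxL _))
  have hrowsL : ∀ r ∈ Golay.rows, Golay.inCode r = true ∧ eltW [Atom.sign r] ∈ L0 := by
    intro r hr
    obtain ⟨i, hi, rfl⟩ := List.getElem_of_mem hr
    have := hrows i hi
    rw [List.getD_eq_getElem (l := Golay.rows) _ hi] at this
    rw [← this]
    exact combine_mem_sub _ _ hgensigns
  have hflip : ∀ (c : Finset GolayPt) (hc : IsCode c), Leech.flip c hc ∈ L0 := by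
    intro c hc
    obtain ⟨k, hk, rfl⟩ := Golay.mem_supports_iff.mp hc
    have := (combine_mem_sub Golay.rows k hrowsL).2
    rw [← Golay.enc_eq hk, eltW_sign (Golay.inCode_enc hk)] at this
    exact this
  have hpL : permElt D.mp ∈ L0 := by
    rw [show [Atom.sign D.md, Atom.perm D.mp] = [Atom.sign D.md] ++ [Atom.perm D.mp] from rfl,
      eltW_append, eltW_sign hmd, eltW_perm] at hM
    exact (L0.mul_mem_cancel_left (hflip _ _)).mp hM
  let f : M24 →* Co0 := permHom
  let L1 : Subgroup (Equiv.Perm GolayPt) := (L0.comap f).map M24.subtype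
  have hgen' : ∀ c ∈ D.gens, Golay.gperm c ∈ Spor.M23 ∧ Golay.gperm c ∈ L1 := by
    intro c hc'
    have hm := hmem c hc'
    simp only [Spec.mem, Bool.and_eq_true, List.all_eq_true, List.mem_singleton, forall_eq,
      Nat.beq_eq] at hm
    have hcM : Golay.inM24 c = true := hm.1.1
    refine ⟨⟨Golay.gperm_mem_M24 hcM, ?_⟩, ⟨⟨_, Golay.gperm_mem_M24 hcM⟩, ?_, rfl⟩⟩
    · show Golay.gperm c none = none
      refine Golay.idx_injective ?_
      rw [Golay.idx_gperm (Golay.okCode_of_inM24 hcM)]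
      exact hm.1.2
    · have hh : permElt c ∈ L0 := by
        rcases hgens c hc' with (e | e) | e <;> subst e
        exacts [hxL, hsL, hpL]
      rw [permElt_eq hcM, inv_mem_iff] at hh
      exact hh
  have hKle : Spor.M23 ≤ L1 := by
    rw [Golay.closure_eq_of_cert hc (fun c hc' => (hgen' c hc').1)
      (Golay.card_spor_M23.trans hcardK.symm), Subgroup.closure_le]
    rintro _ ⟨c, hc', rfl⟩
    exact (hgen' c hc').2
  have hstabL : MulAction.stabilizer Co0 (eightE none) ≤ L0 := by
    intro g hg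
    obtain ⟨π, hπ, c, hc', -, rfl⟩ := exists_flip_perm hg
    refine L0.mul_mem (hflip c hc') ?_
    obtain ⟨π', hπ', he⟩ := hKle (show (π : Equiv.Perm GolayPt) ∈ Spor.M23 from ⟨π.2, hπ⟩)
    obtain rfl : π' = π := Subtype.ext he
    exact hπ'
  -- the suborbit
  set g₀ : Co0 := eltW (valW D.X D.S D.t D.yw) with hg₀
  have hg₀L : g₀ ∈ L0 := hval _
  have hyk : pk (g₀ • eightE none) = D.y := by
    rw [eltW_app (okW_valW hokX hokS htok _) _ (sqNorm_eightE none).le, pk_axis]; exact hy
  set y := g₀ • eightE none with hydef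
  set P : Subgroup Co0 := MulAction.stabilizer Co0 (eightE none)
  have hvec : ∀ p, (getW 5 D.y (Golay.idx p) : ℤ) = vec y p + 16 := fun p => by
    rw [← hyk]; exact getW_pk_idx (norm_axis' g₀) p
  set T := Golay.setOfMask D.four with hTdef
  have hnT : none ∉ T := fun h => by
    have := Golay.mem_setOfMask.mp h
    rw [show Golay.idx none = 23 from rfl, h23] at this
    exact Bool.false_ne_true this
  have hTcard : T.card = 4 := by
    rw [← hfour, List.countP_eq_length_filter,
      ← List.toFinset_card_of_nodup (List.Nodup.filter _ List.nodup_range)]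
    refine Finset.card_bij (fun p _ => Golay.idx p) ?_ (fun p _ r _ h => Golay.idx_injective h) ?_
    · intro p hp
      rw [List.mem_toFinset, List.mem_filter, List.mem_range]
      refine ⟨?_, Golay.mem_setOfMask.mp hp⟩
      have h24 := Golay.idx_lt p
      by_contra hge
      have : p = none := Golay.idx_injective (show Golay.idx p = Golay.idx none by
        rw [show Golay.idx none = 23 from rfl]; omega)
      exact hnT (this ▸ hp)
    · intro i hi
      rw [List.mem_toFinset, List.mem_filter, List.mem_range] at hi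
      refine ⟨Golay.pt i, Golay.mem_setOfMask.mpr ?_, Golay.idx_pt (by omega)⟩
      rw [Golay.idx_pt (by omega)]; exact hi.2
  have hne0 : ∀ p, vec y p ≠ 0 := by
    intro p h0
    have h := (hclass _ (Golay.idx_lt p)).1
    have := hvec p
    rw [h0, zero_add] at this
    rw [show getW 5 D.y (Golay.idx p) = 16 by exact_mod_cast this] at h
    exact Bool.false_ne_true h.symm
  have hTiff : ∀ p, p ≠ none → (p ∈ T ↔ vec y p = (D.cv : ℤ) - 16 ∨ vec y p = 16 - (D.cv : ℤ)) := by
    intro p hp
    rcases (hclass _ (Golay.idx_lt p)).2 with h | h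
    · exact absurd (Golay.idx_injective (h.trans (show 23 = Golay.idx none from rfl))) hp
    · rw [hTdef, Golay.mem_setOfMask, h, Bool.or_eq_true, Nat.beq_eq, Nat.beq_eq]
      have h2 := hvec p
      have := coord_bound (norm_axis' g₀) p
      omega
  -- the stabiliser of the suborbit vector
  have hmono : ∀ g : MulAction.stabilizer P y, ∃ π : Spor.M23, (π : Equiv.Perm GolayPt) • T = T ∧
      ∀ p, (((g : P) : Co0) • eightE p = eightE ((π : Equiv.Perm GolayPt) p) ∨
        ((g : P) : Co0) • eightE p = -eightE ((π : Equiv.Perm GolayPt) p)) ∧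
        8 * vec y p = dotInt (vec (((g : P) : Co0) • eightE p)) (vec y) := by
    intro g
    obtain ⟨π, hπ, c, hc', -, he⟩ := exists_flip_perm (g := ((g : P) : Co0)) (g : P).2
    have hax : ∀ p, ((g : P) : Co0) • eightE p = eightE ((π : Equiv.Perm GolayPt) p) ∨
        ((g : P) : Co0) • eightE p = -eightE ((π : Equiv.Perm GolayPt) p) := by
      intro p
      rw [he, mul_smul, permHom_eightE, flip_eightE]
      split_ifs <;> simp
    have hgy : ((g : P) : Co0) • y = y := g.2
    have hdot : ∀ p, 8 * vec y p = dotInt (vec (((g : P) : Co0) • eightE p)) (vec y) := by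
      intro p
      rw [← congrArg (fun z => dotInt (vec (((g : P) : Co0) • eightE p)) (vec z)) hgy]
      simp only [dot_smul]
      simp only [dotInt, eightE, vec]
      rw [Finset.sum_eq_single p (fun i _ hi => by rw [Pi.single_eq_of_ne hi, zero_mul])
        (fun h => absurd (Finset.mem_univ _) h), Pi.single_eq_same]
    have habs : ∀ p, vec y ((π : Equiv.Perm GolayPt) p) = vec y p ∨
        vec y ((π : Equiv.Perm GolayPt) p) = -vec y p := by
      intro p
      have h := hdot p
      rcases hax p with e | e <;> rw [e] at h <;> simp only [dotInt, eightE, vec] at h ⊢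
      · rw [Finset.sum_eq_single ((π : Equiv.Perm GolayPt) p)
          (fun i _ hi => by rw [Pi.single_eq_of_ne hi, zero_mul])
          (fun h => absurd (Finset.mem_univ _) h), Pi.single_eq_same] at h
        left; omega
      · rw [Finset.sum_eq_single ((π : Equiv.Perm GolayPt) p)
          (fun i _ hi => by simp [Pi.single_eq_of_ne hi])
          (fun h => absurd (Finset.mem_univ _) h)] at h
        simp only [AddSubgroup.coe_neg, Pi.neg_apply, Pi.single_eq_same] at h
        right; omega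
    have hfwd : ∀ r ∈ T, (π : Equiv.Perm GolayPt) r ∈ T := by
      intro r hr
      have hr0 : r ≠ none := fun h => hnT (h ▸ hr)
      have hr1 : (π : Equiv.Perm GolayPt) r ≠ none := fun h =>
        hr0 ((π : Equiv.Perm GolayPt).injective (h.trans hπ.symm))
      rw [hTiff _ hr0] at hr
      rw [hTiff _ hr1]
      rcases habs r with e | e <;> rw [e] <;> rcases hr with e' | e' <;> rw [e'] <;> simp
    refine ⟨⟨π, π.2, hπ⟩, Finset.eq_of_subset_of_card_le ?_ (by rw [Finset.card_smul_finset]), ?_⟩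
    · intro r hr
      obtain ⟨r', hr', rfl⟩ := Finset.mem_smul_finset.mp hr
      exact hfwd r' hr'
    · exact fun p => ⟨hax p, hdot p⟩
  choose πf hπT hπf using hmono
  have hsmall : Nat.card (MulAction.stabilizer P y) ≤ 1152 := by
    refine le_trans (Nat.card_le_card_of_injective
      (fun g => (⟨πf g, hπT g⟩ : {g : Spor.M23 // (g : Equiv.Perm GolayPt) • T = T})) ?_)
      (card_stab_four hTcard hnT)
    intro a b hab
    have hab' : πf a = πf b := congrArg Subtype.val hab
    refine Subtype.ext (Subtype.ext (co0_ext fun p => ?_))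
    obtain ⟨ha, hda⟩ := hπf a p
    obtain ⟨hb, hdb⟩ := hπf b p
    rw [hab'] at ha
    rcases ha with ea | ea <;> rcases hb with eb | eb
    · rw [ea, eb]
    · exfalso; rw [ea] at hda; rw [eb] at hdb
      simp only [dotInt, vec, AddSubgroup.coe_neg, Pi.neg_apply, neg_mul, Finset.sum_neg_distrib] at hda hdb
      have := hne0 p; simp only [vec] at this; omega
    · exfalso; rw [ea] at hda; rw [eb] at hdb
      simp only [dotInt, vec, AddSubgroup.coe_neg, Pi.neg_apply, neg_mul, Finset.sum_neg_distrib] at hda hdb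
      have := hne0 p; simp only [vec] at this; omega
    · rw [ea, eb]
  have hP : Nat.card P = 2048 * 10200960 := by
    rw [show Nat.card P = _ from card_stabilizer_eightE]
  have hsub : MulAction.orbit P y ⊆ MulAction.orbit L0 (eightE none) := by
    rintro _ ⟨g, rfl⟩
    exact ⟨⟨(g : Co0) * g₀, L0.mul_mem (hstabL g.2) hg₀L⟩, mul_smul (g : Co0) g₀ (eightE none)⟩
  have h1 : Nat.card P ≤ Nat.card (MulAction.orbit P y) * 1152 := by
    conv_lhs => rw [← (MulAction.stabilizer P y).index_mul_card, MulAction.index_stabilizer,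
      ← Nat.card_coe_set_eq]
    exact Nat.mul_le_mul_left _ hsmall
  have horb : Nat.card (MulAction.orbit P y) ≤ Nat.card (MulAction.orbit L0 (eightE none)) := by
    rw [Nat.card_coe_set_eq, Nat.card_coe_set_eq]
    exact Set.ncard_le_ncard hsub (Set.finite_range _)
  have hst : Nat.card P ≤ Nat.card (MulAction.stabilizer L0 (eightE none)) := by
    refine Nat.card_le_card_of_injective (fun g : P => ⟨⟨g, hstabL g.2⟩, g.2⟩) ?_
    intro a b hab
    exact Subtype.ext (congrArg (fun z => ((z : L0) : Co0)) (congrArg Subtype.val hab))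
  have h2 : Nat.card (MulAction.orbit L0 (eightE none)) * Nat.card P ≤ Nat.card L0 := by
    conv_rhs => rw [← (MulAction.stabilizer L0 (eightE none)).index_mul_card,
      MulAction.index_stabilizer, ← Nat.card_coe_set_eq]
    exact Nat.mul_le_mul_left _ hst
  haveI : IsSimpleGroup Spor.Co1 := isSimple_co1
  refine eq_top_of_index_lt (p := 23) (by norm_num) (by rw [LeechMod2.Frame.card_co1]; norm_num) ?_
  rw [← Subgroup.index_comap_of_surjective L LeechMod2.Frame.bar_surjective, ← hL0]
  by_contra hge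
  push Not at hge
  have h3 := L0.index_mul_card
  rw [card_co0] at h3
  have h4 : Nat.card P * Nat.card P ≤ 1152 * Nat.card L0 := by
    calc Nat.card P * Nat.card P ≤ Nat.card (MulAction.orbit P y) * 1152 * Nat.card P :=
          Nat.mul_le_mul_right _ h1
      _ = 1152 * (Nat.card (MulAction.orbit P y) * Nat.card P) := by ring
      _ ≤ _ := Nat.mul_le_mul_left _ ((Nat.mul_le_mul_right _ horb).trans h2)
  rw [hP] at h4
  nlinarith

/-- Trivial outer automorphism group. -/
theorem card_out (hG : D.okGen = true) (hT : D.okTri = true) (hX : D.okCentX = true)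
    (hS : D.okCentS = true) (hR : D.okRel = true) (hTab : D.okTab = true)
    {steps : List (Computation.Step ℕ)} {ch : List (Computation.Level ℕ)}
    (hc : (Computation.permRep 24 5 (by decide)).checkClosure D.gens steps ch = true)
    (hcardK : (Computation.permRep 24 5 (by decide)).order ch = 10200960) (hp : D.p = 23) :
    Nat.card (Out Spor.Co1) = 1 := by
  have hT' := hT
  simp only [okTri, Bool.and_eq_true, List.all_eq_true, List.any_eq_true, List.mem_range] at hT'
  obtain ⟨⟨⟨⟨⟨⟨⟨⟨⟨⟨⟨⟨⟨⟨hxM, hsM⟩, htok⟩, -⟩, -⟩, hpow⟩, hxp⟩, hx1⟩, -⟩, -⟩, hrM⟩, hsx⟩, hse⟩,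
    hts⟩, hshift⟩ := hT'
  have hokX : okW D.X = true := by simpa [okW, X, Atom.ok] using hxM
  have hokS : okW D.S = true := by simpa [okW, S, Atom.ok] using hsM
  have okp : ∀ {c}, Golay.inM24 c = true → okW [Atom.perm c] = true := fun h => by
    simpa [okW, Atom.ok] using h
  have qpow : ∀ {c n}, Golay.inM24 c = true → Golay.inM24 (cpow c n) = true →
      q [Atom.perm (cpow c n)] = q [Atom.perm c] ^ n := fun hc hn => by
    rw [q, q, eltW_perm, eltW_perm, permElt_pow hc hn, map_pow]
  have hprime : D.p.Prime := by rw [hp]; norm_num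
  have hxp' : q D.X ^ D.p = 1 := by
    rw [q, ← map_pow, show eltW D.X = permElt D.x from eltW_perm D.x,
      permElt_pow_one hxM (hpow _ (Nat.lt_succ_self _)) hxp, map_one]
  have hx1' : q D.X ≠ 1 := by
    intro h
    rw [q, show eltW D.X = permElt D.x from eltW_perm D.x, LeechMod2.Frame.bar_eq_one] at h
    rcases center_co0_eq h with e | e
    · exact permElt_ne_one hxM hx1 e
    · have h2 := permElt_pow_one hxM (hpow _ (Nat.lt_succ_self _)) hxp
      rw [e, hp, show (23 : ℕ) = 2 * 11 + 1 from rfl, pow_succ, pow_mul, pow_two, negOne_mul_self,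
        one_pow, one_mul] at h2
      exact negOne_ne_one h2
  haveI : Fact D.p.Prime := ⟨hprime⟩
  let T : Tri Spor.Co1 :=
    { x := q D.X, s := q D.S, t := q D.t, p := D.p, r := D.r, e := D.e
      U := {u | ∃ j < D.U.length, u = q (D.U.getD j [])}
      prime := hprime
      gen := closure_eq_top hG hT hc hcardK hp
      order_x := orderOf_eq_prime hxp' hx1'
      sq := by rw [hp, LeechMod2.Frame.card_co1]; norm_num
      conj_x := by
        refine mul_inv_eq_iff_eq_mul.mpr ?_
        have h := q_eq (okW_append.mpr ⟨hokS, hokX⟩) (okW_append.mpr ⟨okp hrM, hokS⟩) hsx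
        rwa [q_append, q_append, qpow hxM hrM] at h
      conj_s := by
        refine mul_inv_eq_iff_eq_mul.mpr ?_
        have h := q_eq (okW_append.mpr ⟨htok, hokS⟩) (okW_append.mpr ⟨okp hse, htok⟩) hts
        rwa [q_append, q_append, qpow hsM hse] at h
      cent_x := fun g hg => cent_x hX hT (by rw [hp]; decide) hg
      shift := by
        intro i hi
        obtain ⟨m, hm, he⟩ := hshift i hi
        have him : Golay.inM24 (cpow D.x i) = true := hpow i (by omega)
        have hmm : Golay.inM24 (cpow D.x m) = true := hpow m (by omega)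
        have h := q_eq (okW_append.mpr ⟨okW_append.mpr ⟨hokS, okp him⟩, okp hmm⟩)
          (okW_append.mpr ⟨okp hmm, hokS⟩) he
        rw [q_append, q_append, q_append, qpow hxM him, qpow hxM hmm] at h
        exact ⟨m, eq_mul_inv_of_mul_eq h⟩
      cent_s := fun g hg => cent_s hS hT hg }
  refine T.card_out_one D.rels ?_ ?_
  · intro w hw
    simp only [okRel, List.all_eq_true] at hR
    show val3 (q D.X) (q D.S) (q D.t) w = 1
    rw [val3_q rfl rfl rfl, q_eq (okW_valW hokX hokS htok _) rfl (hR w hw), q_nil]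
  intro k hk hk0 u hu
  obtain ⟨j, hj, rfl⟩ := hu
  change k < D.p at hk
  simp only [okTab, okRow, List.all_eq_true, List.mem_range, Bool.or_eq_true, Nat.beq_eq] at hTab
  have he := (hTab k hk).resolve_left hk0 j hj
  generalize (D.tab.getD (k - 1) []).getD j (0, 0, 0) = e at he
  simp only [okCentS, Bool.and_eq_true, List.all_eq_true] at hS
  obtain ⟨⟨⟨⟨⟨⟨⟨⟨-, -⟩, has⟩, hsgc⟩, -⟩, hcs⟩, -⟩, -⟩, -⟩ := hS
  have hUok : ∀ w ∈ D.U, okW w = true := by
    intro w hw
    simp only [U, List.mem_flatMap, List.mem_map] at hw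
    obtain ⟨c, hc', a, ha, m, hm, rfl⟩ := hw
    exact okW_append.mpr ⟨(hcs c hc').1, by simp [okW, Atom.ok, has a ha, hsgc m hm]⟩
  have huok := hUok _ (getD_mem_of_lt (d := []) hj)
  have hxk : q D.X ^ k = q [Atom.perm (cpow D.x k)] := (qpow hxM (hpow k (by omega))).symm
  have okxk : okW [Atom.perm (cpow D.x k)] = true := okp (hpow k (by omega))
  unfold entryOk at he
  simp only [Computation.forceNat_eq] at he
  cases h0 : Nat.beq e.1 0
  · simp only [h0, cond_false, Bool.and_eq_true, Nat.blt_eq] at he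
    obtain ⟨hc', ⟨hcs', e1⟩, e2⟩ := he
    set c := D.U.getD e.2.1 [] with hcdef
    have hcok : okW c = true := hUok _ (getD_mem_of_lt (d := []) hc')
    right
    refine ⟨q c, ?_, ?_, ?_⟩
    · show q c * q D.S = q D.S * q c
      rw [← q_append, ← q_append]
      exact q_eq (okW_append.mpr ⟨hcok, hokS⟩) (okW_append.mpr ⟨hokS, hcok⟩) hcs'
    · show q c * q D.X = q D.X ^ k * q c
      rw [hxk, ← q_append, ← q_append]
      exact q_eq (okW_append.mpr ⟨hcok, hokX⟩) (okW_append.mpr ⟨okxk, hcok⟩) e1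
    · show q c * q D.t = q D.t * q (D.U.getD j []) * q c
      rw [← q_append, ← q_append, ← q_append]
      exact q_eq (okW_append.mpr ⟨hcok, htok⟩)
        (okW_append.mpr ⟨okW_append.mpr ⟨htok, huok⟩, hcok⟩) e2
  · simp only [h0, cond_true, Bool.and_eq_true, Nat.blt_eq, Bool.not_eq_true'] at he
    obtain ⟨⟨hr, hax⟩, hne1, hne2⟩ := he
    left
    refine ⟨_, getD_mem_of_lt (d := []) hr, ?_⟩
    show val3 (q D.X ^ k) (q D.S) (q D.t * q (D.U.getD j [])) _ ≠ 1
    rw [val3_q hxk rfl (q_append _ _).symm]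
    exact q_ne_one (okW_valW okxk hokS (okW_append.mpr ⟨htok, huok⟩) _) hax hne1 hne2

end QCert

end Cfsg.Agent.Lib.ConwayOut
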